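import Mathlib
import Cfsg.Agent.TID.Syl.Cover
import Cfsg.Agent.S0145
import Cfsg.Agent.CharactersDeep.RChar
import Cfsg.Agent.H681.TI.Central

/-!
# S4622, Sylow subgroups of order `p ^ 3`: the characters of the normalizer of degree prime to `p` (helper33)

* `Ext3.count` : `Q` normal of order `p ^ 3`, `Z` normal of order `p`, `Q - Z` one class with centralizer order
  `p ^ 2 m`, `m ≤ 3`; then `k(X / Q) + m` characters have degree prime to `p`;
* `count_norm` : the same for the normalizer of a TI Sylow subgroup.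
-/

set_option autoImplicit false
set_option linter.unusedSectionVars false

namespace Cfsg.Agent.TID.D3

open Cfsg Cfsg.Agent.Characters.Core Cfsg.Agent.Characters Cfsg.Agent.TID.Syl
open Cfsg.Agent.TID.Blk (Nm)
open Cfsg.Agent.H608.TI (IsTI)
open scoped ComplexConjugate

universe u

section loc

variable {X : Type u} [Group X] [Finite X] {p m : ℕ} [hp : Fact p.Prime] {Q Z : Subgroup X} {x : X}

/-- the local data -/
structure Ext3 (p m : ℕ) (Q Z : Subgroup X) (x : X) : Prop where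
  le : Z ≤ Q
  cQ : Nat.card Q = p ^ 3
  cZ : Nat.card Z = p
  idx : ¬ p ∣ Q.index
  mem : x ∈ Q
  nmem : x ∉ Z
  ord : orderOf x = p
  cnj : ∀ u ∈ Q, u ∉ Z → IsConj u x
  cent : Nat.card (Subgroup.centralizer ({x} : Set X)) = p ^ 2 * m

theorem Ext3.sum_Q (h : Ext3 p m Q Z x) [Fintype Q] [Fintype Z] {α : X → ℂ} (hα : IsClassFunction X α) :
    ∑ y : Q, α y = ∑ y : Z, α y + ((p : ℂ) ^ 3 - p) * α x := by
  have key : ∀ β : X → ℂ, (∀ u ∈ Q, u ∉ Z → β u = 0) → ∑ y : Z, β y = ∑ y : Q, β y := by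
    intro β hβ
    exact Fintype.sum_of_injective (Subgroup.inclusion h.le) (Subgroup.inclusion_injective _) _ _
      (fun y hy => hβ y y.2 fun hz => hy ⟨⟨y, hz⟩, rfl⟩) (fun _ => rfl)
  have h1 := key (fun u => α u - α x) (fun u hu hz => by
    rw [classFunction_apply_eq hα (h.cnj u hu hz), sub_self])
  rw [Finset.sum_sub_distrib, Finset.sum_sub_distrib, Finset.sum_const, Finset.sum_const, Finset.card_univ,
    Finset.card_univ, ← Nat.card_eq_fintype_card, ← Nat.card_eq_fintype_card, h.cQ, h.cZ] at h1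
  simp only [nsmul_eq_mul, Nat.cast_pow] at h1
  linear_combination -h1

/-- the kernel contains `Q`, or the sums over the cosets vanish -/
theorem ker_or (Q : Subgroup X) [Q.Normal] [Fintype Q] {ψ : X → ℂ} (hψ : IsIrrCharacter X ψ)
    (h : ¬ ∀ n ∈ Q, ψ n = ψ 1) (g : X) : ∑ y : Q, ψ (g * y) = 0 := by
  rcases fx_irr Q hψ with h1 | h1
  · exfalso
    apply h
    intro n hn
    have h2 := fx_mul_mem Q ψ 1 hn
    rwa [h1, one_mul] at h2
  · have h2 := congrFun h1 g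
    rw [fx_apply, Pi.zero_apply] at h2
    exact (mul_eq_zero.1 h2).resolve_left (inv_ne_zero card_ne_zero_complex)

theorem Ext3.typeC [Z.Normal] (h : Ext3 p m Q Z x) {ψ : X → ℂ} (hψ : IsIrrCharacter X ψ)
    (hC : ¬ ∀ n ∈ Z, ψ n = ψ 1) : ψ x = 0 ∧ p ∣ charDegree ψ := by
  classical
  have := Fintype.ofFinite Z
  have hp0 : (p : ℂ) ≠ 0 := Nat.cast_ne_zero.2 hp.out.ne_zero
  have hcl := isIrr_isClassFunction hψ
  have h1 : ψ x = 0 := by
    have h2 := ker_or Z hψ hC x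
    have h3 : ∀ y : Z, ψ (x * y) = ψ x := fun y => classFunction_apply_eq hcl
      (h.cnj _ (mul_mem h.mem (h.le y.2)) fun hz => h.nmem ((Subgroup.mul_mem_cancel_right _ y.2).1 hz))
    rw [Finset.sum_congr rfl fun y _ => h3 y, Finset.sum_const, Finset.card_univ, ← Nat.card_eq_fintype_card, h.cZ,
      nsmul_eq_mul] at h2
    exact (mul_eq_zero.1 h2).resolve_left hp0
  refine ⟨h1, ?_⟩
  have := Fintype.ofFinite (Subgroup.zpowers x)
  have hW : Nat.card (Subgroup.zpowers x) = p := by rw [Nat.card_zpowers, h.ord]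
  have hWp : Fact (Nat.card (Subgroup.zpowers x)).Prime := by rw [hW]; exact hp
  have h4 : ∀ w : Subgroup.zpowers x, w ≠ 1 → ψ w = 0 := by
    intro w hw
    rw [← h1]
    refine classFunction_apply_eq hcl (h.cnj _ ((Subgroup.zpowers_le.2 h.mem) w.2) fun hz => ?_)
    rcases Subgroup.eq_bot_or_eq_top_of_prime_card (Z.subgroupOf (Subgroup.zpowers x)) with h5 | h5
    · have h6 : w ∈ Z.subgroupOf (Subgroup.zpowers x) := hz
      rw [h5] at h6
      exact hw h6
    · have h6 : (⟨x, Subgroup.mem_zpowers x⟩ : Subgroup.zpowers x) ∈ Z.subgroupOf (Subgroup.zpowers x) := by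
        rw [h5]; trivial
      exact h.nmem h6
  obtain ⟨n, hn⟩ := classInner_isNat (isCharacter_comp (Subgroup.zpowers x).subtype (isIrr_isCharacter hψ))
    (isCharacter_one (G := Subgroup.zpowers x))
  rw [classInner_def, Finset.sum_eq_single (1 : Subgroup.zpowers x) (fun w _ hw => by
    rw [Function.comp_apply, Subgroup.coe_subtype, h4 w hw, zero_mul]) (fun h5 => (h5 (Finset.mem_univ _)).elim), hW,
    Function.comp_apply, map_one, Pi.one_apply, map_one, mul_one, Blocks.Basic.irr_one_eq_charDegree hψ,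
    inv_mul_eq_iff_eq_mul₀ hp0] at hn
  exact ⟨n, by exact_mod_cast hn⟩

theorem Ext3.typeB [Q.Normal] (h : Ext3 p m Q Z x) {ψ : X → ℂ} (hψ : IsIrrCharacter X ψ)
    (hA : ¬ ∀ n ∈ Q, ψ n = ψ 1) (hB : ∀ n ∈ Z, ψ n = ψ 1) :
    ∃ a : ℕ, 0 < a ∧ charDegree ψ = (p ^ 2 - 1) * a ∧ ψ x = -(a : ℂ) := by
  have := Fintype.ofFinite Z
  have := Fintype.ofFinite Q
  have hp0 : (p : ℂ) ≠ 0 := Nat.cast_ne_zero.2 hp.out.ne_zero
  have hp1 : 1 < p ^ 2 := Nat.one_lt_pow two_ne_zero hp.out.one_lt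
  have hq : ((p ^ 2 - 1 : ℕ) : ℂ) = (p : ℂ) ^ 2 - 1 := by
    rw [Nat.cast_sub hp1.le]
    push_cast
    rfl
  have hq0 : p ^ 2 - 1 ≠ 0 := by omega
  have h1 := ker_or Q hψ hA 1
  simp only [one_mul] at h1
  rw [h.sum_Q (isIrr_isClassFunction hψ), Finset.sum_congr rfl fun (y : Z) _ => hB y y.2, Finset.sum_const,
    Finset.card_univ, ← Nat.card_eq_fintype_card, h.cZ, nsmul_eq_mul, Blocks.Basic.irr_one_eq_charDegree hψ] at h1
  have h2 : (charDegree ψ : ℂ) = ((p ^ 2 - 1 : ℕ) : ℂ) * (-ψ x) := by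
    rw [hq]
    apply mul_left_cancel₀ hp0
    linear_combination h1
  have h3 : ((p ^ 2 - 1 : ℕ) : ℤ) ∣ (charDegree ψ : ℤ) :=
    CharactersDeep.RChar.dvd_of_isIntegral hq0
      (CharactersDeep.RChar.isIntegral_character (isIrr_isCharacter hψ) x).neg (by rw [Int.cast_natCast]; exact h2)
  obtain ⟨a, ha⟩ := Int.natCast_dvd_natCast.1 h3
  refine ⟨a, ?_, ha, ?_⟩
  · have h4 := Blocks.Basic.charDegree_pos hψ
    rw [ha] at h4
    exact Nat.pos_of_mul_pos_left h4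
  · rw [ha, Nat.cast_mul] at h2
    have h4 := mul_left_cancel₀ (Nat.cast_ne_zero.2 hq0) h2
    rw [h4, neg_neg]

/-- **The characters of degree prime to `p`.** -/
theorem Ext3.count [Q.Normal] [Z.Normal] (h : Ext3 p m Q Z x) (hm : m ≤ 3) :
    Nat.card {ψ : IrrCharacter X // ¬ p ∣ charDegree (ψ : X → ℂ)} = Nat.card (ConjClasses (X ⧸ Q)) + m := by
  classical
  have := Fintype.ofFinite X
  have := finite_irr (G := X)
  have := Fintype.ofFinite (IrrCharacter X)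
  have hp0 : (p : ℂ) ≠ 0 := Nat.cast_ne_zero.2 hp.out.ne_zero
  have hp1 : 1 < p ^ 2 := Nat.one_lt_pow two_ne_zero hp.out.one_lt
  have hq : ((p ^ 2 - 1 : ℕ) : ℂ) = (p : ℂ) ^ 2 - 1 := by
    rw [Nat.cast_sub hp1.le]
    push_cast
    rfl
  let A : IrrCharacter X → Prop := fun ψ => ∀ n ∈ Q, (ψ : X → ℂ) n = (ψ : X → ℂ) 1
  let B : IrrCharacter X → Prop := fun ψ => ¬ A ψ ∧ ∀ n ∈ Z, (ψ : X → ℂ) n = (ψ : X → ℂ) 1
  obtain ⟨E, hE⟩ := H681.TI.infl_ker_equiv (QuotientGroup.mk' Q) (QuotientGroup.mk'_surjective Q)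
  have hAk : ∀ ψ : IrrCharacter X, (∀ n ∈ (QuotientGroup.mk' Q).ker, (ψ : X → ℂ) n = (ψ : X → ℂ) 1) ↔ A ψ := by
    intro ψ
    rw [QuotientGroup.ker_mk']
  have hAc : (Finset.univ.filter A).card = Nat.card (ConjClasses (X ⧸ Q)) := by
    rw [← card_irr, Nat.card_congr (E.trans (Equiv.subtypeEquivRight hAk)), Nat.card_eq_fintype_card,
      Fintype.card_subtype]
  have hAd : ∀ ψ, A ψ → ¬ p ∣ charDegree (ψ : X → ℂ) := by
    intro ψ hψ hd
    obtain ⟨β, hβ⟩ := E.surjective ⟨ψ, (hAk ψ).2 hψ⟩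
    have h1 := hE β
    rw [hβ] at h1
    have h2 : charDegree (ψ : X → ℂ) = charDegree (β : X ⧸ Q → ℂ) := by
      rw [show (ψ : X → ℂ) = _ from h1]
      exact H672.charDegree_comp_one _ _
    rw [h2] at hd
    exact h.idx (hd.trans (H596.charDegree_dvd_card β.2))
  have ha : ∀ ψ : IrrCharacter X, ∃ a : ℕ, (B ψ → 0 < a ∧ charDegree (ψ : X → ℂ) = (p ^ 2 - 1) * a) ∧
      (¬ B ψ → a = 0) ∧ (ψ : X → ℂ) x * conj ((ψ : X → ℂ) x) - (ψ : X → ℂ) 1 * conj ((ψ : X → ℂ) x) =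
        (p : ℂ) ^ 2 * ((a ^ 2 : ℕ) : ℂ) := by
    intro ψ
    by_cases hB : B ψ
    · obtain ⟨a, h1, h2, h3⟩ := h.typeB ψ.2 hB.1 hB.2
      refine ⟨a, fun _ => ⟨h1, h2⟩, fun h4 => (h4 hB).elim, ?_⟩
      rw [h3, Blocks.Basic.irr_one_eq_charDegree ψ.2, h2, Nat.cast_mul, hq, map_neg, Complex.conj_natCast]
      push_cast
      ring
    · refine ⟨0, fun h4 => (hB h4).elim, fun _ => rfl, ?_⟩
      by_cases hA : A ψ
      · rw [hA x h.mem, sub_self]
        simp
      · rw [(h.typeC ψ.2 fun h4 => hB ⟨hA, h4⟩).1]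
        simp
  choose a ha1 ha2 ha3 using ha
  have hs : ∑ ψ, a ψ ^ 2 = m := by
    have h1 := S0145.sum_irr_mul_conj x x
    have h2 := S0145.sum_irr_mul_conj (1 : X) x
    rw [if_pos (IsConj.refl x), h.cent] at h1
    rw [if_neg (fun h3 => h.nmem (by rw [isConj_one_right.1 h3]; exact one_mem Z))] at h2
    have h3 : ∑ ψ : IrrCharacter X, (p : ℂ) ^ 2 * ((a ψ ^ 2 : ℕ) : ℂ) = (p : ℂ) ^ 2 * m := by
      rw [← Finset.sum_congr rfl fun ψ _ => ha3 ψ, Finset.sum_sub_distrib, h1, h2]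
      push_cast
      ring
    rw [← Finset.mul_sum, ← Nat.cast_sum] at h3
    exact_mod_cast mul_left_cancel₀ (pow_ne_zero 2 hp0) h3
  have hb : ∀ ψ, B ψ → a ψ = 1 := by
    intro ψ hψ
    have h1 : a ψ ^ 2 ≤ m := by
      rw [← hs]
      exact Finset.single_le_sum (f := fun ψ => a ψ ^ 2) (fun _ _ => Nat.zero_le _) (Finset.mem_univ ψ)
    have h2 := (ha1 ψ hψ).1
    by_contra h3
    have h4 : 2 ≤ a ψ := by omega
    have h5 := Nat.pow_le_pow_left h4 2
    omega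
  have hBc : (Finset.univ.filter B).card = m := by
    rw [← hs, Finset.card_filter]
    refine Finset.sum_congr rfl fun ψ _ => ?_
    split_ifs with hψ
    · rw [hb ψ hψ]; rfl
    · rw [ha2 ψ hψ]; rfl
  have hBd : ∀ ψ, B ψ → ¬ p ∣ charDegree (ψ : X → ℂ) := by
    intro ψ hψ hd
    rw [(ha1 ψ hψ).2, hb ψ hψ, mul_one] at hd
    have h1 : p ∣ p ^ 2 - (p ^ 2 - 1) := Nat.dvd_sub (dvd_pow_self p two_ne_zero) hd
    rw [show p ^ 2 - (p ^ 2 - 1) = 1 by omega] at h1
    exact hp.out.one_lt.ne' (Nat.dvd_one.1 h1)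
  rw [Nat.card_eq_fintype_card, Fintype.card_subtype, ← hAc, ← hBc, ← Finset.card_union_of_disjoint
    (Finset.disjoint_filter.2 fun ψ _ h1 h2 => h2.1 h1), ← Finset.filter_or]
  congr 1
  refine Finset.filter_congr fun ψ _ => ⟨fun h1 => ?_, fun h1 => h1.elim (hAd ψ) (hBd ψ)⟩
  by_cases hA : A ψ
  · exact Or.inl hA
  · refine Or.inr ⟨hA, ?_⟩
    by_contra h2
    exact h1 (h.typeC ψ.2 h2).2

end loc

section ti

variable {G : Type u} [Group G] [Finite G] {p : ℕ} [hp : Fact p.Prime]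

theorem card_cent_of_conj {a b : G} (h : IsConj a b) :
    Nat.card (Subgroup.centralizer ({a} : Set G)) = Nat.card (Subgroup.centralizer ({b} : Set G)) := by
  have h1 := Blocks.Basic.index_centralizer_isConj h
  have h2 := Subgroup.card_mul_index (Subgroup.centralizer ({a} : Set G))
  have h3 := Subgroup.card_mul_index (Subgroup.centralizer ({b} : Set G))
  rw [← h1, ← h2] at h3
  exact (Nat.eq_of_mul_eq_mul_right (Nat.pos_of_ne_zero Subgroup.index_ne_zero_of_finite) h3).symm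

/-- **The normalizer of a TI Sylow subgroup of order `p ^ 3`.** -/
theorem count_norm (P : Sylow p G) (hTI : IsTI (P : Subgroup G)) (hP : Nat.card (P : Subgroup G) = p ^ 3) {z x : G}
    (hz : z ∈ (P : Subgroup G)) (hoz : orderOf z = p) (hzc : ∀ u ∈ (P : Subgroup G), z * u = u * z)
    (hx : x ∈ (P : Subgroup G)) (hxz : x ∉ Subgroup.zpowers z) (hox : orderOf x = p)
    (hconj : ∀ u ∈ (P : Subgroup G), u ∉ Subgroup.zpowers z → IsConj u x) {m : ℕ} (hm : m ≤ 3) (hpm : ¬ p ∣ m)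
    (hc : Nat.card (Subgroup.centralizer ({x} : Set G)) = p ^ 2 * m) :
    haveI := pn_normal (P : Subgroup G)
    Nat.card {ψ : IrrCharacter (Nm (P : Subgroup G)) // ¬ p ∣ charDegree (ψ : Nm (P : Subgroup G) → ℂ)} =
      Nat.card (ConjClasses (Nm (P : Subgroup G) ⧸ PN (P : Subgroup G))) + m := by
  have := pn_normal (P : Subgroup G)
  have hPN : (P : Subgroup G) ≤ Nm (P : Subgroup G) := Subgroup.le_normalizer
  have hZP : Subgroup.zpowers z ≤ (P : Subgroup G) := Subgroup.zpowers_le.2 hz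
  have hx1 : x ≠ 1 := fun h => hxz (by rw [h]; exact one_mem _)
  have hzn : ∀ g ∈ Nm (P : Subgroup G), g * z * g⁻¹ ∈ Subgroup.zpowers z := by
    intro g hg
    by_contra hcon
    have h1 : IsConj z x := (isConj_iff.2 ⟨g, rfl⟩).trans (hconj _ ((Subgroup.mem_normalizer_iff.1 hg z).1 hz) hcon)
    have h2 : (P : Subgroup G) ≤ Subgroup.centralizer ({z} : Set G) := fun u hu =>
      Subgroup.mem_centralizer_singleton_iff.2 (hzc u hu).symm
    have h3 := Subgroup.card_dvd_of_le h2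
    rw [hP, card_cent_of_conj h1, hc, pow_succ] at h3
    exact hpm (Nat.dvd_of_mul_dvd_mul_left (pow_pos hp.out.pos 2) h3)
  have hZn : ((Subgroup.zpowers z).subgroupOf (Nm (P : Subgroup G))).Normal := by
    refine ⟨fun y hy g => ?_⟩
    obtain ⟨k, hk⟩ := Subgroup.mem_zpowers_iff.1 (Subgroup.mem_subgroupOf.1 hy)
    rw [Subgroup.mem_subgroupOf]
    show (g : G) * y * (g : G)⁻¹ ∈ _
    rw [← hk, ← conj_zpow]
    exact zpow_mem (hzn g g.2) k
  refine Ext3.count (Z := (Subgroup.zpowers z).subgroupOf (Nm (P : Subgroup G))) (x := ⟨x, hPN hx⟩)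
    ⟨fun y hy => hZP hy, ?_, ?_, (sylN P).not_dvd_index, hx, hxz, ?_, ?_, ?_⟩ hm
  · rw [← hP]
    exact Nat.card_congr (Subgroup.subgroupOfEquivOfLe hPN).toEquiv
  · rw [Nat.card_congr (Subgroup.subgroupOfEquivOfLe (hZP.trans hPN)).toEquiv, Nat.card_zpowers, hoz]
  · rw [← Subgroup.orderOf_coe]
    exact hox
  · intro u hu hu1
    obtain ⟨g, hg⟩ := isConj_iff.1 (hconj u hu hu1)
    have h1 : g ∈ Nm (P : Subgroup G) := hTI.mem hx hx1 (by
      rw [← hg, show g⁻¹ * (g * (u : G) * g⁻¹) * g = u by group]; exact hu)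
    exact isConj_iff.2 ⟨⟨g, h1⟩, Subtype.ext hg⟩
  · rw [← hc, ← Nat.card_congr (Subgroup.subgroupOfEquivOfLe (hTI.centralizer_le hx hx1)).toEquiv]
    congr 2
    ext y
    rw [Subgroup.mem_subgroupOf, Subgroup.mem_centralizer_singleton_iff, Subgroup.mem_centralizer_singleton_iff]
    exact ⟨fun h => congrArg Subtype.val h, fun h => Subtype.ext h⟩

end ti

end Cfsg.Agent.TID.D3
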