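import Mathlib
import Cfsg.Agent.TID.D3.Loc
import Cfsg.Agent.CharactersDeep.ElemExt

/-!
# S4622, Sylow subgroups of order `p ^ 3`: the frame (helper33)

* `concl_of_zero` : the conclusion from the numbers of the characters of degree prime to `p`;
* `card_lies_of_ext` : the characters over a linear character which extends;
* `exists_ext` : a linear character trivial on the commutator subgroup extends;
* `Quo` : a central `p'`-quotient; `Quo.isTI`, `Quo.card_N`, `Quo.cent`, `Quo.fact`;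
* `concl_of_quo` : the case that all the linear characters extend.
-/

set_option autoImplicit false
set_option linter.unusedSectionVars false

namespace Cfsg.Agent.TID.D3

open Cfsg Cfsg.Agent.Characters.Core Cfsg.Agent.Characters Cfsg.Agent.TID.Syl
open Cfsg.Agent.TID.Blk (Nm Concl)
open Cfsg.Agent.H622.Over (Lies)
open Cfsg.Agent.H608.TI (IsTI)
open Cfsg.Agent.H681.TI (DZ)
open scoped Pointwise

universe u v

section zero

variable {G : Type u} [Group G] [Finite G] {p : ℕ} [hp : Fact p.Prime]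

theorem nu_zero_iff {χ : G → ℂ} (hχ : IsIrrCharacter G χ) : nu p χ = 0 ↔ ¬ p ∣ charDegree χ := by
  unfold nu
  rw [Nat.factorization_eq_zero_iff]
  have h1 := Blocks.Basic.charDegree_pos hχ
  refine ⟨fun h => ?_, fun h => Or.inr (Or.inl h)⟩
  rcases h with h | h | h
  · exact (h hp.out).elim
  · exact h
  · omega

theorem nu_le_one (P : Sylow p G) (hTI : IsTI (P : Subgroup G)) (h3 : (Nat.card G).factorization p = 3)
    (χ : IrrCharacter G) (h : ¬ DZ p (χ : G → ℂ)) : nu p (χ : G → ℂ) ≤ 1 := by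
  obtain ⟨M, hM⟩ := Blocks.ExistsModular.exists_isPModular hp.out
  have := hM.2.1.isPrime
  have h1 := H681.TI.full_or_dz hM P (H681.TI.inf_eq_of_ti P hTI) χ h
  have h2 := ((S4710.result p M hM (blockOf M (χ : G → ℂ)) ⟨χ, rfl⟩ _ rfl).2 χ (Blocks.Basic.mem_blockOf_self χ)).2
  have h4 := Blk.fact_degree (p := p) (Blocks.Basic.mem_blockOf_self (M := M) χ)
  unfold nu
  omega

theorem nu_le_one' (P : Sylow p G) (h3 : (Nat.card G).factorization p = 3)
    (ψ : IrrCharacter (Nm (P : Subgroup G))) : nu p (ψ : Nm (P : Subgroup G) → ℂ) ≤ 1 := by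
  obtain ⟨M, hM⟩ := Blocks.ExistsModular.exists_isPModular hp.out
  have := hM.2.1.isPrime
  have hb : IsPBlock M (blockOf M (ψ : Nm (P : Subgroup G) → ℂ)) := ⟨ψ, rfl⟩
  have h1 := Blk.defect_of_card hM hb (defect_norm hM P hb) (sylN P).card_eq_multiplicity
  have h2 := ((S4710.result p M hM _ hb _ rfl).2 ψ (Blocks.Basic.mem_blockOf_self ψ)).2
  have h4 := Blk.fact_degree (p := p) (Blocks.Basic.mem_blockOf_self (M := M) ψ)
  have h5 := fact_norm P
  unfold nu
  omega

theorem card_split {α : Type v} [Finite α] (A B C : α → Prop) (h : ∀ a, A a ↔ B a ∨ C a) (hd : ∀ a, B a → ¬ C a) :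
    Nat.card {a // A a} = Nat.card {a // B a} + Nat.card {a // C a} := by
  classical
  rw [Nat.card_congr (Equiv.subtypeEquivRight h), ← Nat.card_sum]
  exact Nat.card_congr (subtypeOrEquiv B C (Pi.disjoint_iff.2 fun a => Prop.disjoint_iff.2 fun h1 => hd a h1.1 h1.2))

/-- **The conclusion from the numbers of the characters of degree prime to `p`.** -/
theorem concl_of_zero {M : Ideal AlgInt} (hM : IsPModular p M) (P : Sylow p G) (hTI : IsTI (P : Subgroup G))
    (h3 : (Nat.card G).factorization p = 3) {K : Subgroup G} (hKc : K ≤ Subgroup.center G) (hK : ¬ p ∣ Nat.card K)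
    (hC : ∀ x ∈ Subgroup.centralizer ((P : Subgroup G) : Set G), ¬ p ∣ orderOf x → x ∈ K)
    {B : Set (IrrCharacter G)} (hB : IsPBlock M B) (hBP : IsDefectGroup p M B P)
    (hcnt : ∀ c : K →* ℂˣ,
      Nat.card {χ : IrrCharacter G // Lies K c (χ : G → ℂ) ∧ ¬ p ∣ charDegree (χ : G → ℂ)} =
      Nat.card {ψ : IrrCharacter (Nm (P : Subgroup G)) //
        Lies (K.subgroupOf (Nm (P : Subgroup G))) (cN P c) (ψ : Nm (P : Subgroup G) → ℂ) ∧
          ¬ p ∣ charDegree (ψ : Nm (P : Subgroup G) → ℂ)}) :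
    Concl p M B (P : Subgroup G) := by
  have hP1 : (P : Subgroup G) ≠ ⊥ := by
    intro h
    have h1 := P.card_eq_multiplicity
    rw [h, Subgroup.card_bot, h3] at h1
    exact (Nat.one_lt_pow (by norm_num) hp.out.one_lt).ne h1
  have := finite_irr (G := G)
  have := finite_irr (G := Nm (P : Subgroup G))
  refine concl_of_counts hM P hP1 hTI hKc hK hC hB hBP fun c h h0 h1 => ?_
  have hnd : ∀ χ : IrrCharacter G, nu p (χ : G → ℂ) < 3 → ¬ DZ p (χ : G → ℂ) := fun χ h2 h4 => by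
    unfold nu at h2
    unfold DZ at h4
    omega
  by_cases h2 : h = 1
  · subst h2
    have h4 := count_lies P hP1 hTI hKc hK hC c
    rw [card_split _ (fun χ : IrrCharacter G => Lies K c (χ : G → ℂ) ∧ ¬ p ∣ charDegree (χ : G → ℂ))
        (fun χ : IrrCharacter G => Lies K c (χ : G → ℂ) ∧ nu p (χ : G → ℂ) = 1) (fun χ => ?_) (fun χ => ?_),
      card_split _ (fun ψ : IrrCharacter (Nm (P : Subgroup G)) =>
          Lies (K.subgroupOf (Nm (P : Subgroup G))) (cN P c) (ψ : Nm (P : Subgroup G) → ℂ) ∧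
            ¬ p ∣ charDegree (ψ : Nm (P : Subgroup G) → ℂ))
        (fun ψ : IrrCharacter (Nm (P : Subgroup G)) =>
          Lies (K.subgroupOf (Nm (P : Subgroup G))) (cN P c) (ψ : Nm (P : Subgroup G) → ℂ) ∧
            nu p (ψ : Nm (P : Subgroup G) → ℂ) = 1) (fun ψ => ?_) (fun ψ => ?_), hcnt c] at h4
    · omega
    · rw [← and_or_left, ← nu_zero_iff ψ.2]
      have h5 := nu_le_one' P h3 ψ
      exact (and_iff_left (by omega)).symm
    · rw [← nu_zero_iff ψ.2]
      rintro ⟨-, h5⟩ ⟨-, h6⟩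
      omega
    · rw [← and_or_left, ← nu_zero_iff χ.2]
      refine and_congr_right fun _ => ⟨fun h5 => ?_, fun h5 => hnd χ (by omega)⟩
      have h6 := nu_le_one P hTI h3 χ h5
      omega
    · rw [← nu_zero_iff χ.2]
      rintro ⟨-, h5⟩ ⟨-, h6⟩
      omega
  · rw [Nat.card_eq_zero.2 (Or.inl ⟨fun χ => ?_⟩), Nat.card_eq_zero.2 (Or.inl ⟨fun ψ => ?_⟩)]
    · have h5 := nu_le_one' P h3 ψ.1
      have h6 := ψ.2.2
      omega
    · have h6 := χ.2.2
      have h5 := nu_le_one P hTI h3 χ.1 (hnd χ.1 (by omega))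
      omega

end zero

section ext

variable {X : Type u} [Group X] [Finite X] {K : Subgroup X}

/-- **The characters over a linear character which extends.** -/
theorem card_lies_of_ext (c : K →* ℂˣ) (μ : X →* ℂˣ) (hμ : ∀ k : K, μ k = c k) {Q : Type v} [Group Q] [Finite Q]
    (π : X →* Q) (hπ : Function.Surjective π) (hker : ∀ x, π x = 1 ↔ x ∈ K) (D : ℕ → Prop) :
    Nat.card {χ : IrrCharacter X // Lies K c (χ : X → ℂ) ∧ D (charDegree (χ : X → ℂ))} =
      Nat.card {β : IrrCharacter Q // D (charDegree (β : Q → ℂ))} := by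
  have hdeg : ∀ (ν : X →* ℂˣ) (α : X → ℂ), charDegree (fun x => (ν x : ℂ) * α x) = charDegree α := by
    intro ν α
    unfold charDegree
    simp only [map_one, Units.val_one, one_mul]
  let f : {β : IrrCharacter Q // D (charDegree (β : Q → ℂ))} →
      {χ : IrrCharacter X // Lies K c (χ : X → ℂ) ∧ D (charDegree (χ : X → ℂ))} := fun β =>
    ⟨⟨fun x => (μ x : ℂ) * ((β.1 : Q → ℂ) ∘ π) x, H672.isIrr_mul_lf μ (isIrr_comp π hπ β.1.2)⟩, fun x k => by
      show (μ (x * k) : ℂ) * (β.1 : Q → ℂ) (π (x * k)) = (μ x : ℂ) * (β.1 : Q → ℂ) (π x) * c k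
      rw [map_mul, map_mul, (hker k).2 k.2, mul_one, hμ, Units.val_mul]
      ring, by
      show D (charDegree (fun x => (μ x : ℂ) * ((β.1 : Q → ℂ) ∘ π) x))
      rw [hdeg, H672.charDegree_comp_one]
      exact β.2⟩
  refine (Nat.card_congr (Equiv.ofBijective f ⟨fun β γ h => ?_, fun χ => ?_⟩)).symm
  · refine Subtype.ext (Subtype.ext (funext fun y => ?_))
    obtain ⟨x, rfl⟩ := hπ y
    exact mul_left_cancel₀ (Units.ne_zero (μ x)) (congrFun (congrArg (fun t => (t.1 : X → ℂ)) h) x)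
  · obtain ⟨E, hE⟩ := H681.TI.infl_ker_equiv π hπ
    obtain ⟨β, hβ⟩ := E.surjective ⟨⟨fun x => ((μ⁻¹ x : ℂˣ) : ℂ) * (χ.1 : X → ℂ) x, H672.isIrr_mul_lf μ⁻¹ χ.1.2⟩,
      fun n hn => by
        have h1 := χ.2.1 1 ⟨n, (hker n).1 hn⟩
        rw [one_mul, ← hμ] at h1
        show ((μ⁻¹ n : ℂˣ) : ℂ) * (χ.1 : X → ℂ) n = ((μ⁻¹ 1 : ℂˣ) : ℂ) * (χ.1 : X → ℂ) 1
        rw [h1, map_one, Units.val_one, one_mul, MonoidHom.inv_apply, mul_comm, mul_assoc, Units.mul_inv, mul_one]⟩
    have h1 := hE β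
    rw [hβ] at h1
    have h2 : (fun x => ((μ⁻¹ x : ℂˣ) : ℂ) * (χ.1 : X → ℂ) x) = (β : Q → ℂ) ∘ π := h1
    refine ⟨⟨β, ?_⟩, Subtype.ext (Subtype.ext (funext fun x => ?_))⟩
    · rw [← H672.charDegree_comp_one π, ← h2, hdeg]
      exact χ.2.2
    · show (μ x : ℂ) * ((β : Q → ℂ) ∘ π) x = (χ.1 : X → ℂ) x
      rw [← h2]
      show (μ x : ℂ) * (((μ x)⁻¹ : ℂˣ) * (χ.1 : X → ℂ) x) = (χ.1 : X → ℂ) x
      rw [← mul_assoc, Units.mul_inv, one_mul]

/-- A linear character trivial on the commutator subgroup extends. -/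
theorem exists_ext (c : K →* ℂˣ) (h : ∀ k : K, (k : X) ∈ commutator X → c k = 1) :
    ∃ μ : X →* ℂˣ, ∀ k : K, μ k = c k := by
  let j : K →* Abelianization X := Abelianization.of.comp K.subtype
  have hj : j.ker ≤ c.ker := fun k hk => h k ((QuotientGroup.eq_one_iff (N := commutator X) (k : X)).1 hk)
  obtain ⟨β, hβ⟩ := CharactersDeep.ElemExt.exists_ext_of_injective (A := Abelianization X) mul_comm
    (QuotientGroup.kerLift j) (QuotientGroup.kerLift_injective j) (QuotientGroup.lift j.ker c hj)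
  exact ⟨β.comp Abelianization.of, fun k => hβ (QuotientGroup.mk k)⟩

/-- `X / E` is abelian if `K` is central and `X / K E` is cyclic. -/
theorem commutator_le (hK : K ≤ Subgroup.center X) (E : Subgroup X) [E.Normal] {t : X}
    (h : ∀ x : X, ∃ (n : ℤ) (k : X) (e : X), k ∈ K ∧ e ∈ E ∧ x = t ^ n * k * e) : commutator X ≤ E := by
  rw [← QuotientGroup.ker_mk' E]
  have hc : ∀ a b : X ⧸ E, a * b = b * a := by
    intro a b
    obtain ⟨a, rfl⟩ := QuotientGroup.mk'_surjective E a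
    obtain ⟨b, rfl⟩ := QuotientGroup.mk'_surjective E b
    obtain ⟨n, k, e, hk, he, rfl⟩ := h a
    obtain ⟨n', k', e', hk', he', rfl⟩ := h b
    have h1 : QuotientGroup.mk' E e = 1 := (QuotientGroup.eq_one_iff e).2 he
    have h2 : QuotientGroup.mk' E e' = 1 := (QuotientGroup.eq_one_iff e').2 he'
    rw [map_mul _ _ e, map_mul _ _ e', h1, h2, mul_one, mul_one, ← map_mul, ← map_mul]
    congr 1
    have h3 := Subgroup.mem_center_iff.1 (hK hk)
    have h4 := Subgroup.mem_center_iff.1 (hK hk')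
    calc t ^ n * k * (t ^ n' * k') = t ^ n * (k * t ^ n') * k' := by group
      _ = t ^ n * t ^ n' * (k * k') := by rw [← h3]; group
      _ = t ^ n' * (t ^ n * k') * k := by rw [← h3 k']; group
      _ = t ^ n' * k' * (t ^ n * k) := by rw [h4]; group
  rw [commutator_def, Subgroup.commutator_le]
  intro a _ b _
  rw [MonoidHom.mem_ker, map_commutatorElement, commutatorElement_eq_one_iff_mul_comm]
  exact hc _ _

end ext

section quo

variable {G : Type u} [Group G] [Finite G] {p : ℕ} [hp : Fact p.Prime] {H : Type v} [Group H] [Finite H]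
  {K : Subgroup G} {π : G →* H}

/-- a central `p'`-quotient -/
structure Quo (p : ℕ) (K : Subgroup G) (π : G →* H) : Prop where
  surj : Function.Surjective π
  ker : ∀ x, π x = 1 ↔ x ∈ K
  cen : K ≤ Subgroup.center G
  cop : ¬ p ∣ Nat.card K

theorem Quo.mem_of (h : Quo p K π) (P : Sylow p G) {g a : G} (ha : a ∈ (P : Subgroup G))
    (h1 : π (g * a * g⁻¹) ∈ (P : Subgroup G).map π) : g * a * g⁻¹ ∈ (P : Subgroup G) := by
  obtain ⟨b, hb, h2⟩ := h1
  have h3 : b⁻¹ * (g * a * g⁻¹) ∈ K := by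
    rw [← h.ker, map_mul, map_inv, h2, inv_mul_cancel]
  obtain ⟨m, hm⟩ := P.2 ⟨a, ha⟩
  have h4 : a ^ p ^ m = 1 := congrArg Subtype.val hm
  have h5 := H681.TI.eq_one_of_mul_pow P h.cop (h.cen.trans (Subgroup.center_le_centralizer _)) hb h3
    ⟨m, by rw [mul_inv_cancel_left, conj_pow, h4, mul_one, mul_inv_cancel]⟩
  rw [← inv_mul_eq_one.1 h5]
  exact hb

theorem Quo.mem_nm (h : Quo p K π) (P : Sylow p G) (g : G) :
    π g ∈ Nm ((P : Subgroup G).map π) ↔ g ∈ Nm (P : Subgroup G) := by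
  constructor
  · intro h1
    refine Subgroup.mem_normalizer_fintype fun a ha => h.mem_of P ha ?_
    rw [map_mul, map_mul, map_inv]
    exact (Subgroup.mem_normalizer_iff.1 h1 _).1 ⟨a, ha, rfl⟩
  · intro h1
    refine Subgroup.mem_normalizer_fintype ?_
    rintro _ ⟨a, ha, rfl⟩
    exact ⟨g * a * g⁻¹, (Subgroup.mem_normalizer_iff.1 h1 _).1 ha, by rw [map_mul, map_mul, map_inv]⟩

theorem Quo.isTI (h : Quo p K π) (P : Sylow p G) (hTI : IsTI (P : Subgroup G)) : IsTI ((P : Subgroup G).map π) := by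
  intro y hy
  obtain ⟨g, rfl⟩ := h.surj y
  rw [eq_bot_iff]
  rintro _ ⟨⟨a, ha, rfl⟩, h1⟩
  by_contra h2
  apply hy
  rw [h.mem_nm]
  have h3 : a ≠ 1 := fun h4 => h2 (by rw [h4, map_one]; exact one_mem _)
  have h4 : π a ∈ MulAut.conj (π g) • (P : Subgroup G).map π := h1
  rw [Subgroup.mem_pointwise_smul_iff_inv_smul_mem, ← map_inv, MulAut.smul_def, MulAut.conj_apply] at h4
  have h5 := h.mem_of P (g := g⁻¹) ha (by rw [map_mul, map_mul, map_inv π g⁻¹, map_inv π g]; exact h4)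
  rw [inv_inv] at h5
  exact hTI.mem ha h3 h5

theorem Quo.fact (h : Quo p K π) : (Nat.card G).factorization p = (Nat.card H).factorization p := by
  have h1 : π.ker = K := Subgroup.ext h.ker
  rw [← Subgroup.card_mul_index π.ker, Subgroup.index_ker, MonoidHom.range_eq_top.2 h.surj, Subgroup.card_top, h1,
    Nat.factorization_mul Nat.card_pos.ne' Nat.card_pos.ne', Finsupp.add_apply,
    Nat.factorization_eq_zero_of_not_dvd h.cop, zero_add]

theorem Quo.cent (h : Quo p K π) (P : Subgroup G)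
    (hC : ∀ y ∈ Subgroup.centralizer ((P.map π : Subgroup H) : Set H), ¬ p ∣ orderOf y → y = 1) :
    ∀ x ∈ Subgroup.centralizer (P : Set G), ¬ p ∣ orderOf x → x ∈ K := by
  intro x hx h1
  rw [← h.ker]
  refine hC _ ?_ fun h2 => h1 (h2.trans (orderOf_map_dvd π x))
  rw [Subgroup.mem_centralizer_iff]
  rintro _ ⟨a, ha, rfl⟩
  rw [← map_mul, ← map_mul, Subgroup.mem_centralizer_iff.1 hx a ha]

/-- The characters of the normalizer over a linear character which extends to the normalizer. -/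
theorem Quo.card_N (h : Quo p K π) (P : Sylow p G) (c : K →* ℂˣ) (ν : Nm (P : Subgroup G) →* ℂˣ)
    (hν : ∀ k : K.subgroupOf (Nm (P : Subgroup G)), ν k = cN P c k) (D : ℕ → Prop) :
    Nat.card {ψ : IrrCharacter (Nm (P : Subgroup G)) //
        Lies (K.subgroupOf (Nm (P : Subgroup G))) (cN P c) (ψ : Nm (P : Subgroup G) → ℂ) ∧
          D (charDegree (ψ : Nm (P : Subgroup G) → ℂ))} =
      Nat.card {γ : IrrCharacter (Nm ((P : Subgroup G).map π)) //
        D (charDegree (γ : Nm ((P : Subgroup G).map π) → ℂ))} := by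
  refine card_lies_of_ext (cN P c) ν hν ((π.comp (Nm (P : Subgroup G)).subtype).codRestrict
    (Nm ((P : Subgroup G).map π)) fun g => (h.mem_nm P g).2 g.2) (fun y => ?_) (fun x => ?_) D
  · obtain ⟨g, hg⟩ := h.surj y
    exact ⟨⟨g, (h.mem_nm P g).1 (by rw [hg]; exact y.2)⟩, Subtype.ext hg⟩
  · rw [Subgroup.mem_subgroupOf, ← h.ker]
    exact Subtype.ext_iff

/-- The equality of the counts for a linear character which extends to `G`. -/
theorem Quo.cnt (h : Quo p K π) (P : Sylow p G) (c : K →* ℂˣ) (μ : G →* ℂˣ) (hμ : ∀ k : K, μ k = c k)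
    (hH : Nat.card {β : IrrCharacter H // ¬ p ∣ charDegree (β : H → ℂ)} =
      Nat.card {γ : IrrCharacter (Nm ((P : Subgroup G).map π)) //
        ¬ p ∣ charDegree (γ : Nm ((P : Subgroup G).map π) → ℂ)}) :
    Nat.card {χ : IrrCharacter G // Lies K c (χ : G → ℂ) ∧ ¬ p ∣ charDegree (χ : G → ℂ)} =
      Nat.card {ψ : IrrCharacter (Nm (P : Subgroup G)) //
        Lies (K.subgroupOf (Nm (P : Subgroup G))) (cN P c) (ψ : Nm (P : Subgroup G) → ℂ) ∧
          ¬ p ∣ charDegree (ψ : Nm (P : Subgroup G) → ℂ)} := by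
  rw [card_lies_of_ext c μ hμ π h.surj h.ker (fun d => ¬ p ∣ d), hH]
  exact (h.card_N P c (μ.comp (Nm (P : Subgroup G)).subtype) (fun k => hμ ⟨k, k.2⟩) (fun d => ¬ p ∣ d)).symm

/-- **The case that `K` meets the commutator subgroup trivially.** -/
theorem concl_of_quo (h : Quo p K π) {M : Ideal AlgInt} (hM : IsPModular p M) (P : Sylow p G)
    (hTI : IsTI (P : Subgroup G)) (h3 : (Nat.card H).factorization p = 3) (hd : K ⊓ commutator G = ⊥)
    (hC : ∀ y ∈ Subgroup.centralizer (((P : Subgroup G).map π : Subgroup H) : Set H), ¬ p ∣ orderOf y → y = 1)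
    (hH : Nat.card {β : IrrCharacter H // ¬ p ∣ charDegree (β : H → ℂ)} =
      Nat.card {γ : IrrCharacter (Nm ((P : Subgroup G).map π)) //
        ¬ p ∣ charDegree (γ : Nm ((P : Subgroup G).map π) → ℂ)})
    {B : Set (IrrCharacter G)} (hB : IsPBlock M B) (hBP : IsDefectGroup p M B P) : Concl p M B (P : Subgroup G) := by
  refine concl_of_zero hM P hTI (h.fact.trans h3) h.cen h.cop (h.cent _ hC) hB hBP fun c => ?_
  obtain ⟨μ, hμ⟩ := exists_ext c fun k hk => by
    have h1 : (k : G) ∈ K ⊓ commutator G := ⟨k.2, hk⟩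
    rw [hd] at h1
    rw [show k = 1 from Subtype.ext h1, map_one]
  exact h.cnt P c μ hμ hH

end quo

end Cfsg.Agent.TID.D3
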