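import Cfsg.Agent.TID.D3.J4Num
import Cfsg.Agent.H265.S8.JDeg

/-!
# S4622, row `J₄`: 42 irreducible characters have degree prime to 11 (helper33)
-/

set_option autoImplicit false
set_option linter.unusedSectionVars false

open Cfsg Subgroup

namespace Cfsg.Agent.TID.D3.J4

open Cfsg.Agent.Characters.Core Cfsg.Agent.H653.Sieve Cfsg.Agent.H735.Lin Cfsg.Agent.H735.J4C Cfsg.Agent.H265.J4LP

universe u

theorem wf_of {wl : List (ℕ × ℤ)} (h : ∀ x ∈ wl, wf wl x.1 = x.2) {r : ℕ} {w : ℤ} (hw : (r, w) ∈ wl) : w = wf wl r :=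
  (h _ hw).symm

variable {G : Type u} [Group G] [Finite G] [Fintype (IrrCharacter G)]

theorem count_gen [IsSimpleGroup G] (hG : ¬ IsMulCommutative G) (hN : Nat.card G = N)
    (hk : Nat.card (ConjClasses G) = 62)
    (hc : ∀ p ∈ [43, 37, 31, 29, 23], ∃ x : G, orderOf x = p ∧ Nat.card (centralizer ({x} : Set G)) = p)
    {z x : G} (hx : orderOf x = 11) {a b : IrrCharacter G → ℤ} (h11 : H34.TI.Cols11 z x a b)
    (hT : ∀ χ : IrrCharacter G, deg χ ∈ H265.S8.TD)
    (hdz : (Finset.univ.filter fun χ : IrrCharacter G => (1331 : ℤ) ∣ H34.TI.dg χ).card = 13) :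
    Nat.card {χ : IrrCharacter G // ¬ 11 ∣ charDegree (χ : G → ℂ)} = 42 := by
  classical
  have := Fintype.ofFinite G
  obtain ⟨W0, m0, q0, c0, r0⟩ := prime_col hG (by norm_num) hN (hc 43 (by simp)) 14 3
    [(0, .ofNat 0), (1, .ofNat 3), (14, .negSucc 0), (29, .ofNat 1), (42, .negSucc 2)] 3 true (by decide +kernel)
  obtain ⟨W1, m1, q1, c1, r1⟩ := prime_col hG (by norm_num) hN (hc 37 (by simp)) 12 3
    [(0, .ofNat 0), (1, .ofNat 3), (12, .negSucc 0), (25, .ofNat 1), (36, .negSucc 2)] 3 true (by decide +kernel)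
  obtain ⟨W2, m2, q2, c2, r2⟩ := prime_col hG (by norm_num) hN (hc 31 (by simp)) 10 3
    [(0, .ofNat 0), (1, .ofNat 3), (10, .negSucc 0), (21, .ofNat 1), (30, .negSucc 2)] 3 true (by decide +kernel)
  obtain ⟨W3, m3, q3, -, r3⟩ := prime_col hG (by norm_num) hN (hc 29 (by simp)) 28 1
    [(0, .ofNat 0), (1, .ofNat 1), (28, .negSucc 0)] 0 false (by decide +kernel)
  obtain ⟨W4, m4, q4, -, r4⟩ := prime_col hG (by norm_num) hN (hc 23 (by simp)) 22 1
    [(0, .ofNat 0), (1, .ofNat 1), (22, .negSucc 0)] 0 false (by decide +kernel)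
  have e0 : W0 = fun χ => w43 (deg χ) := funext fun χ => wf_of (by decide) (r0 χ)
  have e1 : W1 = fun χ => w37 (deg χ) := funext fun χ => wf_of (by decide) (r1 χ)
  have e2 : W2 = fun χ => w31 (deg χ) := funext fun χ => wf_of (by decide) (r2 χ)
  have e3 : W3 = fun χ => w29 (deg χ) := funext fun χ => wf_of (by decide) (r3 χ)
  have e4 : W4 = fun χ => w23 (deg χ) := funext fun χ => wf_of (by decide) (r4 χ)
  subst e0 e1 e2 e3 e4
  have md := deg_mem_Sp (G := G)
  have mb : (fun χ => (b χ : ℂ)) ∈ Sp G (fun n => n = 11) := by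
    rw [funext h11.b_eq]
    exact mem_Sp x hx
  have hnp : ¬ (Nat.card G).Prime := by
    rw [hN, N]
    norm_num
  have hone : ∑ χ : IrrCharacter G, ind (deg χ) 1 = 1 := by
    obtain ⟨χ₁, hχ₁⟩ : ∃ χ : IrrCharacter G, (χ : G → ℂ) = 1 := ⟨⟨1, isIrr_one⟩, rfl⟩
    have hd1 : deg χ₁ = 1 := by
      unfold deg charDegree
      rw [hχ₁]
      simp
    rw [Finset.sum_eq_single χ₁]
    · rw [hd1]
      rfl
    · intro χ _ hχ
      have h1 : Nat.beq (deg χ) 1 = false := by
        rw [Bool.eq_false_iff]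
        intro h2
        exact hχ (Subtype.ext ((one_of_deg hnp χ (Nat.eq_of_beq_eq_true h2)).trans hχ₁.symm))
      rw [ind, h1]
      rfl
    · intro h
      exact absurd (Finset.mem_univ _) h
  have hcard : ∑ _χ : IrrCharacter G, (1 : ℤ) = 62 := by
    rw [Finset.sum_const, Finset.card_univ, ← Nat.card_eq_fintype_card, card_irr, hk]
    rfl
  have hdz' : ∑ χ : IrrCharacter G, ind (deg χ % 1331) 0 = 13 := by
    have h1 : ∀ χ : IrrCharacter G, ind (deg χ % 1331) 0 = if (1331 : ℤ) ∣ H34.TI.dg χ then 1 else 0 := by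
      intro χ
      have h2 : (1331 : ℤ) ∣ H34.TI.dg χ ↔ deg χ % 1331 = 0 := by
        rw [← Nat.dvd_iff_mod_eq_zero]
        unfold H34.TI.dg deg
        exact_mod_cast Iff.rfl
      by_cases h3 : deg χ % 1331 = 0
      · rw [if_pos (h2.2 h3), h3]
        rfl
      · rw [if_neg (mt h2.1 h3), ind]
        have h4 : Nat.beq (deg χ % 1331) 0 = false := by
          rw [Bool.eq_false_iff]
          exact fun h5 => h3 (Nat.eq_of_beq_eq_true h5)
        rw [h4]
        rfl
    rw [Finset.sum_congr rfl fun χ _ => h1 χ, ← Finset.sum_filter, Finset.sum_const, hdz]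
    rfl
  have hsq : ∑ χ : IrrCharacter G, (deg χ : ℤ) * deg χ = 86775571046077562880 := by
    rw [sumsq, hN]
    rfl
  have h := count (fun χ : IrrCharacter G => (deg χ, b χ)) (fun χ => by
    have h1 := List.all_eq_true.1 hmem _ (hT χ)
    have h2 := allAB_spec h1 (h11.norm χ) (h11.cong χ) (h11.cong' χ) (h11.dvd_a χ) (h11.dvd_b χ)
    obtain ⟨L, hL, h3⟩ := List.any_eq_true.1 h2
    exact ⟨L, hL, of_decide_eq_true h3⟩) (fun i hi => by
      interval_cases i
      · exact hcard.symm
      · exact hsq.symm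
      · exact h11.bb.symm
      · exact (orth_eq (by norm_num) md mb).symm
      · exact q3.symm
      · exact (orth_eq (by norm_num) md m3).symm
      · exact (orth_eq (by norm_num) m3 mb).symm
      · exact hdz'.symm
      · exact q4.symm
      · exact (orth_eq (by norm_num) md m4).symm
      · exact (orth_eq (by norm_num) m4 mb).symm
      · exact q2.symm
      · exact (orth_eq (by norm_num) md m2).symm
      · exact (orth_eq (by norm_num) m2 mb).symm
      · exact q1.symm
      · exact (orth_eq (by norm_num) md m1).symm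
      · exact (orth_eq (by norm_num) m1 mb).symm
      · exact q0.symm
      · exact (orth_eq (by norm_num) md m0).symm
      · exact (orth_eq (by norm_num) m0 mb).symm
      · exact (c2 rfl).symm
      · exact (c1 rfl).symm
      · exact (c0 rfl).symm
      · exact hone.symm)
  rw [Nat.card_eq_fintype_card, Fintype.card_subtype, ← h, Finset.card_filter]
  refine Finset.sum_congr rfl fun χ _ => ?_
  unfold wt deg
  by_cases h1 : 11 ∣ charDegree (χ : G → ℂ)
  · rw [if_neg (not_not.2 h1), if_pos h1]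
  · rw [if_pos h1, if_neg h1]

attribute [local instance] H877.IMJ4.finJ4

/-- **`J₄` has 42 irreducible characters of degree prime to 11.** -/
theorem count_J4 : Nat.card {χ : IrrCharacter Spor.J4 // ¬ 11 ∣ charDegree (χ : Spor.J4 → ℂ)} = 42 := by
  have : Finite (IrrCharacter Spor.J4) := finite_irr
  have := Fintype.ofFinite (IrrCharacter Spor.J4)
  have hsim : IsSimpleGroup Spor.J4 := H877.IMJ4.simple
  obtain ⟨a, b, h11⟩ := H34.TI.cols11 El.eleven hN
  exact count_gen H877.IMJ4.nonab hN H877.IMJ4.card_classes cents El.eleven.ord_x h11 H265.S8.deg_model dz_J4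

end Cfsg.Agent.TID.D3.J4
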