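import Mathlib
import Cfsg.Agent.TID.D3.Frame
import Cfsg.Agent.TID.D3.J4Cnt
import Cfsg.Agent.H966.TI.RowJ4
import Cfsg.Agent.H966.TI.J4Norm

/-!
# S4622, the row `J₄`, `p = 11` (helper33)
-/

set_option autoImplicit false
set_option linter.unusedSectionVars false

namespace Cfsg.Agent.TID.D3

open Cfsg Cfsg.Agent.TID.Syl Cfsg.Agent.H265.J4LP
open Cfsg.Agent.TID.Blk (Nm Concl)
open Cfsg.Agent.H608.TI (IsTI)
open scoped Pointwise

universe u

/-- 42 characters of the normalizer have degree prime to 11 -/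
theorem count_N_J4 {H : Type u} [Group H] [Finite H] {D : Data11 H} (E : Eleven D) [Fact (Nat.Prime 11)]
    (R : Sylow 11 H) (hR : (R : Subgroup H) = D.P) (hTI : IsTI (R : Subgroup H)) :
    Nat.card {γ : IrrCharacter (Nm (R : Subgroup H)) // ¬ 11 ∣ charDegree (γ : Nm (R : Subgroup H) → ℂ)} = 42 := by
  have hc : Nat.card (R : Subgroup H) = 1331 := by rw [hR, E.card_P]
  have h1 := count_norm R hTI (hc.trans (by norm_num)) (z := D.z) (x := D.x) (hR ▸ E.z_mem) E.ord_z
    (hR ▸ E.z_comm) (hR ▸ E.x_mem) E.x_notMem E.ord_x (hR ▸ E.conj_x) (m := 2) (by norm_num) (by norm_num)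
    (E.card_cent 1)
  rw [h1]
  have h2 := H966.TI.card_NP E R hc
  exact congrArg (· + 2) h2

/-- **The row `J₄`.** -/
theorem sj4 : SJ4.{u} := by
  intro p hp G _ _ S M B P hS hyp hrk hΦ
  obtain ⟨hPS, rfl, ⟨e⟩⟩ := hΦ
  have hZn : (pPrimeCore 11 G).Normal := Lib.Cores.pPrimeCore_normal 11
  have := hS.soc.normal
  have := hS.soc.simple
  have hfin : Finite Spor.J4 := H858.FixJ4.facts.1
  have hE := El.eleven
  have hP1 := ne_bot_of_rk hrk
  have hTI : IsTI (P : Subgroup G) := hyp.ti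
  have htop : S = ⊤ := by
    have h1 := H681.TI.Alm.index_dvd ⟨hS.soc.normal, hS.soc.cent⟩ e
    rw [S2068.result] at h1
    exact Subgroup.index_eq_one.1 (Nat.dvd_one.1 h1)
  have hcen : pPrimeCore 11 G ≤ Subgroup.centralizer ((P : Subgroup G) : Set G) :=
    hS.cen.trans (Subgroup.center_le_centralizer _)
  have hsit : H723.TI.Sit 11 P S := ⟨hTI, hcen, hS.soc.normal, hS.soc.simple, hS.soc.nonab, hS.soc.cent⟩
  have hE1 := H681.TI.normalClosure_eq P hsit hP1 hPS
  have hdisj := H681.TI.disj_of_mult P hcen hE1 (H681.TI.perfect_of_simple hS.soc.nonab) e S2042.result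
  have hcomm : commutator G ≤ Subgroup.normalClosure ((P : Subgroup G) : Set G) := by
    refine commutator_le hS.cen _ (t := 1) fun x => ?_
    have h1 : QuotientGroup.mk' (pPrimeCore 11 G) x ∈ S := by rw [htop]; trivial
    rw [← hE1] at h1
    obtain ⟨y, hy, h2⟩ := h1
    refine ⟨0, x * y⁻¹, y, ?_, hy, by group⟩
    rw [← QuotientGroup.eq_one_iff (N := pPrimeCore 11 G), ← QuotientGroup.mk'_apply, map_mul, map_inv, h2,
      mul_inv_cancel]
  let e1 : (G ⧸ pPrimeCore 11 G) ≃* Spor.J4 :=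
    (Subgroup.topEquiv.symm.trans (MulEquiv.subgroupCongr htop.symm)).trans e
  let π₀ : G →* Spor.J4 := e1.toMonoidHom.comp (QuotientGroup.mk' (pPrimeCore 11 G))
  have hs₀ : Function.Surjective π₀ := e1.surjective.comp (QuotientGroup.mk'_surjective _)
  let R : Sylow 11 Spor.J4 := Sylow.ofCard _ (hE.card_P.trans (by rw [H966.TI.card_fac]; norm_num))
  obtain ⟨g, hg⟩ := MulAction.exists_smul_eq Spor.J4 (P.mapSurjective hs₀) R
  let π : G →* Spor.J4 := (MulAut.conj g).toMonoidHom.comp π₀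
  have hmap : (P : Subgroup G).map π = (R : Subgroup Spor.J4) := by
    rw [← hg, ← Subgroup.map_map]
    rfl
  have hq : Quo 11 (pPrimeCore 11 G) π := by
    refine ⟨(MulAut.conj g).surjective.comp hs₀, fun x => ?_, hS.cen, H681.TI.core_not_dvd⟩
    rw [← QuotientGroup.eq_one_iff (N := pPrimeCore 11 G)]
    exact (MulAut.conj g).map_eq_one_iff.trans e1.map_eq_one_iff
  refine concl_of_quo hq hyp.modu P hTI H966.TI.card_fac ?_ ?_ ?_ hyp.blk hyp.dfc
  · rw [eq_bot_iff, ← hdisj]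
    exact inf_le_inf_left _ hcomm
  · rw [hmap]
    exact fun y hy h1 => H966.TI.eq_one_of_cent hE H966.TI.card_fac R hy h1
  · have h1 := hq.isTI P hTI
    rw [hmap] at h1 ⊢
    rw [J4.count_J4, count_N_J4 hE R rfl h1]

end Cfsg.Agent.TID.D3
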