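import Mathlib

/-!
# S4622, rows `McL`, `J₄`: a search through the nonnegative integer solutions of a linear system (helper33)

A finite family of objects has types in a given list; the sums of some functions of the types are known.
`dfs` runs through all the possible multiplicities of the types; `sound` : the sum of the weights is the given number.
-/

set_option autoImplicit false

namespace Cfsg.Agent.TID.D3.Dfs

/-- evaluate the argument first -/
def force (x : ℤ) (f : ℤ → Bool) : Bool :=
  match x with
  | Int.ofNat 0 => f 0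
  | Int.ofNat (m + 1) => f (Int.ofNat (m + 1))
  | Int.negSucc 0 => f (-1)
  | Int.negSucc (m + 1) => f (Int.negSucc (m + 1))

theorem force_eq (x : ℤ) (f : ℤ → Bool) : force x f = f x := by
  unfold force
  split <;> rfl

/-- the difference of two vectors -/
def sub : List ℤ → List ℤ → List ℤ
  | s, [] => s
  | [], b :: v => (-b) :: sub [] v
  | a :: s, b :: v => (a - b) :: sub s v

theorem sub_realised : True := by have := @sub.eq_def; trivial

theorem getD_sub : ∀ (v s : List ℤ) (i : ℕ), (sub s v).getD i 0 = s.getD i 0 - v.getD i 0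
  | [], s, i => by simp [sub]
  | b :: v, [], 0 => by simp [sub]
  | b :: v, [], i + 1 => by
    have := getD_sub v [] i
    simpa [sub] using this
  | b :: v, a :: s, 0 => by simp [sub]
  | b :: v, a :: s, i + 1 => by
    have := getD_sub v s i
    simpa [sub] using this

/-- the difference, evaluated -/
def subK : List ℤ → List ℤ → (List ℤ → Bool) → Bool
  | [], s, k => k s
  | b :: v, [], k => force (-b) fun c => subK v [] fun r => k (c :: r)
  | b :: v, a :: s, k => force (a - b) fun c => subK v s fun r => k (c :: r)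

theorem subK_realised : True := by have := @subK.eq_def; trivial

theorem subK_eq : ∀ (v s : List ℤ) (k : List ℤ → Bool), subK v s k = k (sub s v)
  | [], s, k => by simp [subK, sub]
  | b :: v, [], k => by rw [subK, force_eq, subK_eq v, sub]
  | b :: v, a :: s, k => by rw [subK, force_eq, subK_eq v, sub]

/-- a linear form in two coordinates -/
structure Fn where
  c : ℕ
  k : ℤ
  c' : ℕ
  k' : ℤ

/-- its value -/
def Fn.ev (f : Fn) (s : List ℤ) : ℤ := f.k * s.getD f.c 0 + f.k' * s.getD f.c' 0

/-- one of the forms is negative -/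
def prune (fs : List Fn) (s : List ℤ) : Bool := fs.any fun f => decide (f.ev s < 0)

/-- a type with its vector, its weight and the forms -/
structure Lev (T : Type) where
  t : T
  v : List ℤ
  o : ℕ
  fs : List Fn

/-- the multiplicity of one type -/
def loop (fs : List Fn) (v : List ℤ) (o : ℕ) (next : List ℤ → ℕ → Bool) : ℕ → List ℤ → ℕ → Bool
  | 0, _, _ => false
  | n + 1, s, acc => prune fs s || (next s acc && subK v s fun s' => loop fs v o next n s' (acc + o))

theorem loop_realised : True := by have := @loop.eq_def; trivial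

variable {T : Type}

/-- the search -/
def dfs (fe : List Fn) (w : ℕ) : List (Lev T) → List ℤ → ℕ → Bool
  | [], s, acc => prune fe s || Nat.beq acc w
  | L :: Ls, s, acc => loop L.fs L.v L.o (dfs fe w Ls) 70 s acc

theorem dfs_realised : True := by have := @dfs.eq_def; trivial

/-- the forms are nonnegative on the remaining types -/
def valid (n : ℕ) : List (Lev T) → Bool
  | [] => true
  | L :: Ls => (L.fs.all fun f => decide (f.c < n) && decide (f.c' < n) &&
      (L :: Ls).all fun L' => decide (0 ≤ f.ev L'.v)) && valid n Ls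

theorem valid_realised : True := by have := @valid.eq_def; trivial

variable {X : Type*} {n : ℕ} {F : ℕ → T → ℤ} {o : T → ℕ} {τ : X → T}

theorem not_prune {fs : List Fn} {s : List ℤ} {A : Finset X} (hs : ∀ i < n, s.getD i 0 = ∑ x ∈ A, F i (τ x))
    (h : ∀ f ∈ fs, f.c < n ∧ f.c' < n ∧ ∀ x ∈ A, 0 ≤ f.k * F f.c (τ x) + f.k' * F f.c' (τ x)) : prune fs s = false := by
  rw [Bool.eq_false_iff]
  intro h1
  obtain ⟨f, hf, h2⟩ := List.any_eq_true.1 h1
  obtain ⟨h3, h4, h5⟩ := h f hf
  rw [decide_eq_true_iff, Fn.ev, hs _ h3, hs _ h4, Finset.mul_sum, Finset.mul_sum, ← Finset.sum_add_distrib] at h2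
  exact absurd (Finset.sum_nonneg h5) (not_le.2 h2)

/-- **Soundness of the search.** -/
theorem sound [DecidableEq X] {fe : List Fn} {w : ℕ} (hfe : ∀ f ∈ fe, f.c < n ∧ f.c' < n) :
    ∀ (Ls : List (Lev T)), valid n Ls = true → (∀ L ∈ Ls, L.o = o L.t ∧ ∀ i < n, L.v.getD i 0 = F i L.t) →
      ∀ (A : Finset X) (s : List ℤ) (acc : ℕ), (∀ x ∈ A, ∃ L ∈ Ls, L.t = τ x) →
      (∀ i < n, s.getD i 0 = ∑ x ∈ A, F i (τ x)) → dfs fe w Ls s acc = true → acc + ∑ x ∈ A, o (τ x) = w
  | [], _, _, A, s, acc, hA, hs, h => by
    have hA0 : A = ∅ := by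
      rw [Finset.eq_empty_iff_forall_notMem]
      intro x hx
      obtain ⟨L, hL, -⟩ := hA x hx
      exact absurd hL List.not_mem_nil
    subst hA0
    rw [dfs, not_prune hs (fun f hf => ⟨(hfe f hf).1, (hfe f hf).2, fun x hx => absurd hx (Finset.notMem_empty x)⟩),
      Bool.false_or] at h
    rw [Finset.sum_empty, add_zero]
    exact Nat.eq_of_beq_eq_true h
  | L :: Ls, hv, hL, A, s, acc, hA, hs, h => by
    rw [valid, Bool.and_eq_true, List.all_eq_true] at hv
    have ih := sound (w := w) hfe Ls hv.2 (fun L' hL' => hL L' (List.mem_cons_of_mem _ hL'))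
    rw [dfs] at h
    generalize 70 = m at h
    induction m generalizing A s acc with
    | zero => exact absurd h (by rw [loop]; exact Bool.false_ne_true)
    | succ m ihm =>
      have hp : prune L.fs s = false := by
        refine not_prune hs fun f hf => ?_
        have h1 := hv.1 f hf
        rw [Bool.and_eq_true, Bool.and_eq_true, decide_eq_true_iff, decide_eq_true_iff, List.all_eq_true] at h1
        refine ⟨h1.1.1, h1.1.2, fun x hx => ?_⟩
        obtain ⟨L', hL', h2⟩ := hA x hx
        have h3 := h1.2 L' hL'
        rw [decide_eq_true_iff, Fn.ev, (hL L' hL').2 _ h1.1.1, (hL L' hL').2 _ h1.1.2, h2] at h3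
        exact h3
      rw [loop, hp, Bool.false_or, Bool.and_eq_true, subK_eq] at h
      by_cases hx : ∃ x ∈ A, L.t = τ x
      · obtain ⟨x, hxA, hx⟩ := hx
        have h1 := ihm (A.erase x) (sub s L.v) (acc + L.o) (fun y hy => hA y (Finset.mem_of_mem_erase hy))
          (fun i hi => by
            rw [getD_sub, hs i hi, (hL L List.mem_cons_self).2 i hi, hx, ← Finset.add_sum_erase A _ hxA]
            ring) h.2
        rw [← Finset.add_sum_erase A _ hxA, ← h1, (hL L List.mem_cons_self).1, hx]
        ring
      · refine ih A s acc (fun y hy => ?_) hs h.1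
        obtain ⟨L', hL', h2⟩ := hA y hy
        rcases List.mem_cons.1 hL' with rfl | h3
        · exact absurd ⟨y, hy, h2⟩ hx
        · exact ⟨L', h3, h2⟩

end Cfsg.Agent.TID.D3.Dfs
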