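import Cfsg.Agent.TID.D3.Dfs
import Cfsg.Agent.H265.S8.JData

/-!
# S4622, row `J₄`: the number of the degrees prime to 11, numerical part (helper33)

The types are the pairs (degree, value at `11B`).
-/

set_option autoImplicit false
set_option maxRecDepth 100000

namespace Cfsg.Agent.TID.D3.J4

open Cfsg.Agent.TID.D3.Dfs

/-- the value of a prime column -/
def wf (wl : List (ℕ × ℤ)) (r : ℕ) : ℤ := (wl.lookup r).getD 0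

def w43 (d : ℕ) : ℤ := wf [(0, .ofNat 0), (1, .ofNat 3), (14, .negSucc 0), (29, .ofNat 1), (42, .negSucc 2)] (d % 43)
def w37 (d : ℕ) : ℤ := wf [(0, .ofNat 0), (1, .ofNat 3), (12, .negSucc 0), (25, .ofNat 1), (36, .negSucc 2)] (d % 37)
def w31 (d : ℕ) : ℤ := wf [(0, .ofNat 0), (1, .ofNat 3), (10, .negSucc 0), (21, .ofNat 1), (30, .negSucc 2)] (d % 31)
def w29 (d : ℕ) : ℤ := wf [(0, .ofNat 0), (1, .ofNat 1), (28, .negSucc 0)] (d % 29)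
def w23 (d : ℕ) : ℤ := wf [(0, .ofNat 0), (1, .ofNat 1), (22, .negSucc 0)] (d % 23)

/-- the indicator -/
def ind (m n : ℕ) : ℤ := bif Nat.beq m n then 1 else 0

/-- the vector of a type -/
def vec (t : ℕ × ℤ) : List ℤ :=
  [1, (t.1 : ℤ) * t.1, t.2 * t.2, (t.1 : ℤ) * t.2, w29 t.1 * w29 t.1, (t.1 : ℤ) * w29 t.1, w29 t.1 * t.2, ind (t.1 % 1331) 0,
    w23 t.1 * w23 t.1, (t.1 : ℤ) * w23 t.1, w23 t.1 * t.2, w31 t.1 * w31 t.1, (t.1 : ℤ) * w31 t.1, w31 t.1 * t.2,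
    w37 t.1 * w37 t.1, (t.1 : ℤ) * w37 t.1, w37 t.1 * t.2, w43 t.1 * w43 t.1, (t.1 : ℤ) * w43 t.1, w43 t.1 * t.2,
    ind (w31 t.1).natAbs 1, ind (w37 t.1).natAbs 1, ind (w43 t.1).natAbs 1, ind t.1 1]

/-- the coordinates -/
def F (i : ℕ) (t : ℕ × ℤ) : ℤ := (vec t).getD i 0

/-- the weight -/
def wt (t : ℕ × ℤ) : ℕ := if 11 ∣ t.1 then 0 else 1

/-- the totals -/
def tot : List ℤ := [.ofNat 62, .ofNat 86775571046077562880, .ofNat 242, .ofNat 0, .ofNat 29, .ofNat 0, .ofNat 0, .ofNat 13, .ofNat 23, .ofNat 0, .ofNat 0, .ofNat 93, .ofNat 0, .ofNat 0, .ofNat 111, .ofNat 0, .ofNat 0, .ofNat 129, .ofNat 0, .ofNat 0, .ofNat 3, .ofNat 3, .ofNat 3, .ofNat 1]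

/-- the types -/
def Ls : List (Lev (ℕ × ℤ)) := [
  ⟨(1, .negSucc 9), [.ofNat 1, .ofNat 1, .ofNat 100, .negSucc 9, .ofNat 1, .ofNat 1, .negSucc 9, .ofNat 0, .ofNat 1, .ofNat 1, .negSucc 9, .ofNat 9, .ofNat 3, .negSucc 29, .ofNat 9, .ofNat 3, .negSucc 29, .ofNat 9, .ofNat 3, .negSucc 29, .ofNat 0, .ofNat 0, .ofNat 0, .ofNat 1], 1,
    [⟨23, .ofNat 1, 23, .ofNat 0⟩]⟩,
  ⟨(1, .ofNat 1), [.ofNat 1, .ofNat 1, .ofNat 1, .ofNat 1, .ofNat 1, .ofNat 1, .ofNat 1, .ofNat 0, .ofNat 1, .ofNat 1, .ofNat 1, .ofNat 9, .ofNat 3, .ofNat 3, .ofNat 9, .ofNat 3, .ofNat 3, .ofNat 9, .ofNat 3, .ofNat 3, .ofNat 0, .ofNat 0, .ofNat 0, .ofNat 1], 1,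
    [⟨23, .ofNat 1, 23, .ofNat 0⟩]⟩,
  ⟨(1445942610, .ofNat 2), [.ofNat 1, .ofNat 2090750031413612100, .ofNat 4, .ofNat 2891885220, .ofNat 0, .ofNat 0, .ofNat 0, .ofNat 0, .ofNat 0, .ofNat 0, .ofNat 0, .ofNat 0, .ofNat 0, .ofNat 0, .ofNat 0, .ofNat 0, .ofNat 0, .ofNat 1, .negSucc 1445942609, .negSucc 1, .ofNat 0, .ofNat 0, .ofNat 1], 1,
    [⟨22, .ofNat 1, 22, .ofNat 0⟩, ⟨23, .negSucc 0, 23, .ofNat 0⟩]⟩,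
  ⟨(1981808640, .negSucc 1), [.ofNat 1, .ofNat 3927565485578649600, .ofNat 4, .negSucc 3963617279, .ofNat 1, .negSucc 1981808639, .ofNat 2, .ofNat 0, .ofNat 1, .ofNat 1981808640, .negSucc 1, .ofNat 9, .negSucc 5945425919, .ofNat 6, .ofNat 1, .ofNat 1981808640, .negSucc 1, .ofNat 9, .ofNat 5945425920, .negSucc 5, .ofNat 0, .ofNat 1], 1,
    [⟨22, .negSucc 0, 22, .ofNat 0⟩, ⟨21, .ofNat 1, 21, .ofNat 0⟩]⟩,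
  ⟨(2001151845, .ofNat 0), [.ofNat 1, .ofNat 4004608706746904025, .ofNat 0, .ofNat 0, .ofNat 1, .ofNat 2001151845, .ofNat 0, .ofNat 1, .ofNat 1, .negSucc 2001151844, .ofNat 0, .ofNat 1, .negSucc 2001151844, .ofNat 0, .ofNat 0, .ofNat 0, .ofNat 0, .ofNat 0, .ofNat 0, .ofNat 0, .ofNat 1], 0,
    [⟨21, .negSucc 0, 21, .ofNat 0⟩, ⟨20, .ofNat 1, 20, .ofNat 0⟩]⟩,
  ⟨(3054840657, .ofNat 0), [.ofNat 1, .ofNat 9332051439660191649, .ofNat 0, .ofNat 0, .ofNat 0, .ofNat 0, .ofNat 0, .ofNat 1, .ofNat 0, .ofNat 0, .ofNat 0, .ofNat 0, .ofNat 0, .ofNat 0, .ofNat 0, .ofNat 0, .ofNat 0, .ofNat 9, .negSucc 9164521970], 0,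
    [⟨20, .negSucc 0, 20, .ofNat 0⟩, ⟨17, .ofNat 394172988, 18, .negSucc 0⟩]⟩,
  ⟨(2692972480, .negSucc 10), [.ofNat 1, .ofNat 7252100778037350400, .ofNat 121, .negSucc 29622697279, .ofNat 0, .ofNat 0, .ofNat 0, .ofNat 0, .ofNat 0, .ofNat 0, .ofNat 0, .ofNat 0, .ofNat 0, .ofNat 0, .ofNat 0, .ofNat 0, .ofNat 0, .ofNat 9, .negSucc 8078917439, .ofNat 33], 0,
    [⟨2, .ofNat 1, 2, .ofNat 0⟩, ⟨17, .ofNat 394172988, 18, .negSucc 0⟩]⟩,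
  ⟨(2692972480, .ofNat 0), [.ofNat 1, .ofNat 7252100778037350400, .ofNat 0, .ofNat 0, .ofNat 0, .ofNat 0, .ofNat 0, .ofNat 0, .ofNat 0, .ofNat 0, .ofNat 0, .ofNat 0, .ofNat 0, .ofNat 0, .ofNat 0, .ofNat 0, .ofNat 0, .ofNat 9, .negSucc 8078917439], 0,
    [⟨17, .ofNat 394172988, 18, .negSucc 0⟩]⟩,
  ⟨(1182518964, .ofNat 0), [.ofNat 1, .ofNat 1398351100219633296, .ofNat 0, .ofNat 0, .ofNat 0, .ofNat 0, .ofNat 0, .ofNat 1, .ofNat 0, .ofNat 0, .ofNat 0, .ofNat 9, .ofNat 3547556892, .ofNat 0, .ofNat 0, .ofNat 0, .ofNat 0, .ofNat 9, .ofNat 3547556892], 0,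
    [⟨17, .ofNat 592296, 18, .ofNat 1⟩, ⟨11, .ofNat 1, 13, .ofNat 1⟩, ⟨17, .ofNat 8, 19, .negSucc 2⟩]⟩,
  ⟨(32307363, .ofNat 0), [.ofNat 1, .ofNat 1043765704013769, .ofNat 0, .ofNat 0, .ofNat 0, .ofNat 0, .ofNat 0, .ofNat 1, .ofNat 1, .negSucc 32307362, .ofNat 0, .ofNat 0, .ofNat 0, .ofNat 0, .ofNat 9, .negSucc 96922088, .ofNat 0, .ofNat 9, .ofNat 96922089], 0,
    [⟨17, .ofNat 10769121, 18, .negSucc 0⟩, ⟨17, .ofNat 592296, 18, .ofNat 1⟩]⟩,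
  ⟨(1776888, .negSucc 7), [.ofNat 1, .ofNat 3157330964544, .ofNat 64, .negSucc 14215103, .ofNat 0, .ofNat 0, .ofNat 0, .ofNat 0, .ofNat 0, .ofNat 0, .ofNat 0, .ofNat 9, .negSucc 5330663, .ofNat 24, .ofNat 0, .ofNat 0, .ofNat 0, .ofNat 9, .negSucc 5330663, .ofNat 24], 1,
    [⟨17, .ofNat 395715, 18, .negSucc 0⟩, ⟨11, .ofNat 1, 13, .ofNat 1⟩]⟩,
  ⟨(1776888, .ofNat 3), [.ofNat 1, .ofNat 3157330964544, .ofNat 9, .ofNat 5330664, .ofNat 0, .ofNat 0, .ofNat 0, .ofNat 0, .ofNat 0, .ofNat 0, .ofNat 0, .ofNat 9, .negSucc 5330663, .negSucc 8, .ofNat 0, .ofNat 0, .ofNat 0, .ofNat 9, .negSucc 5330663, .negSucc 8], 1,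
    [⟨17, .ofNat 1, 19, .negSucc 0⟩, ⟨17, .ofNat 395715, 18, .negSucc 0⟩]⟩,
  ⟨(1187145, .negSucc 7), [.ofNat 1, .ofNat 1409313251025, .ofNat 64, .negSucc 9497159, .ofNat 1, .ofNat 1187145, .negSucc 7, .ofNat 0, .ofNat 0, .ofNat 0, .ofNat 0, .ofNat 0, .ofNat 0, .ofNat 0, .ofNat 0, .ofNat 0, .ofNat 0, .ofNat 9, .ofNat 3561435, .negSucc 23], 1,
    [⟨17, .negSucc 99788, 18, .ofNat 1⟩, ⟨2, .ofNat 1, 2, .ofNat 0⟩, ⟨17, .ofNat 1, 19, .negSucc 0⟩]⟩,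
  ⟨(1187145, .ofNat 3), [.ofNat 1, .ofNat 1409313251025, .ofNat 9, .ofNat 3561435, .ofNat 1, .ofNat 1187145, .ofNat 3, .ofNat 0, .ofNat 0, .ofNat 0, .ofNat 0, .ofNat 0, .ofNat 0, .ofNat 0, .ofNat 0, .ofNat 0, .ofNat 0, .ofNat 9, .ofNat 3561435, .ofNat 9], 1,
    [⟨18, .ofNat 1, 18, .ofNat 0⟩, ⟨17, .negSucc 99788, 18, .ofNat 1⟩]⟩,
  ⟨(299367, .negSucc 8), [.ofNat 1, .ofNat 89620600689, .ofNat 81, .negSucc 2694302, .ofNat 0, .ofNat 0, .ofNat 0, .ofNat 0, .ofNat 1, .negSucc 299366, .ofNat 9, .ofNat 0, .ofNat 0, .ofNat 0, .ofNat 0, .ofNat 0, .ofNat 0, .ofNat 9, .ofNat 898101, .negSucc 26], 1,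
    [⟨17, .ofNat 99789, 18, .negSucc 0⟩, ⟨2, .ofNat 1, 2, .ofNat 0⟩, ⟨17, .ofNat 2, 19, .negSucc 2⟩]⟩,
  ⟨(299367, .ofNat 2), [.ofNat 1, .ofNat 89620600689, .ofNat 4, .ofNat 598734, .ofNat 0, .ofNat 0, .ofNat 0, .ofNat 0, .ofNat 1, .negSucc 299366, .negSucc 1, .ofNat 0, .ofNat 0, .ofNat 0, .ofNat 0, .ofNat 0, .ofNat 0, .ofNat 9, .ofNat 898101, .ofNat 6], 1,
    [⟨17, .ofNat 1, 17, .ofNat 0⟩, ⟨19, .ofNat 1, 19, .ofNat 0⟩]⟩,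
  ⟨(1183406741, .ofNat 0), [.ofNat 1, .ofNat 1400451514644241081, .ofNat 0, .ofNat 0, .ofNat 0, .ofNat 0, .ofNat 0, .ofNat 1, .ofNat 0, .ofNat 0, .ofNat 0, .ofNat 0, .ofNat 0, .ofNat 0, .ofNat 9, .negSucc 3550220222], 0,
    [⟨17, .negSucc 0, 17, .ofNat 0⟩, ⟨14, .ofNat 86591680, 15, .negSucc 0⟩]⟩,
  ⟨(259775040, .ofNat 8), [.ofNat 1, .ofNat 67483071407001600, .ofNat 64, .ofNat 2078200320, .ofNat 0, .ofNat 0, .ofNat 0, .ofNat 0, .ofNat 1, .negSucc 259775039, .negSucc 7, .ofNat 0, .ofNat 0, .ofNat 0, .ofNat 9, .ofNat 779325120, .ofNat 24], 1,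
    [⟨14, .ofNat 11803715, 15, .ofNat 1⟩, ⟨2, .ofNat 1, 2, .ofNat 0⟩]⟩,
  ⟨(259775040, .negSucc 2), [.ofNat 1, .ofNat 67483071407001600, .ofNat 9, .negSucc 779325119, .ofNat 0, .ofNat 0, .ofNat 0, .ofNat 0, .ofNat 1, .negSucc 259775039, .ofNat 3, .ofNat 0, .ofNat 0, .ofNat 0, .ofNat 9, .ofNat 779325120, .negSucc 8], 1,
    [⟨14, .ofNat 11803715, 15, .ofNat 1⟩, ⟨2, .ofNat 1, 2, .ofNat 0⟩, ⟨14, .ofNat 1, 16, .negSucc 0⟩]⟩,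
  ⟨(35411145, .ofNat 11), [.ofNat 1, .ofNat 1253949190211025, .ofNat 121, .ofNat 389522595, .ofNat 1, .negSucc 35411144, .negSucc 10, .ofNat 0, .ofNat 0, .ofNat 0, .ofNat 0, .ofNat 0, .ofNat 0, .ofNat 0, .ofNat 9, .negSucc 106233434, .negSucc 32], 0,
    [⟨14, .ofNat 889111, 15, .negSucc 2⟩, ⟨2, .ofNat 1, 2, .ofNat 0⟩, ⟨14, .ofNat 1, 16, .negSucc 0⟩]⟩,
  ⟨(35411145, .ofNat 0), [.ofNat 1, .ofNat 1253949190211025, .ofNat 0, .ofNat 0, .ofNat 1, .negSucc 35411144, .ofNat 0, .ofNat 0, .ofNat 0, .ofNat 0, .ofNat 0, .ofNat 0, .ofNat 0, .ofNat 0, .ofNat 9, .negSucc 106233434], 0,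
    [⟨14, .ofNat 889111, 15, .negSucc 2⟩]⟩,
  ⟨(889111, .negSucc 7), [.ofNat 1, .ofNat 790518370321, .ofNat 64, .negSucc 7112887, .ofNat 0, .ofNat 0, .ofNat 0, .ofNat 0, .ofNat 0, .ofNat 0, .ofNat 0, .ofNat 0, .ofNat 0, .ofNat 0, .ofNat 9, .ofNat 2667333, .negSucc 23], 1,
    [⟨15, .ofNat 1, 15, .ofNat 0⟩, ⟨14, .ofNat 1, 16, .negSucc 0⟩, ⟨2, .ofNat 1, 2, .ofNat 0⟩]⟩,
  ⟨(889111, .ofNat 3), [.ofNat 1, .ofNat 790518370321, .ofNat 9, .ofNat 2667333, .ofNat 0, .ofNat 0, .ofNat 0, .ofNat 0, .ofNat 0, .ofNat 0, .ofNat 0, .ofNat 0, .ofNat 0, .ofNat 0, .ofNat 9, .ofNat 2667333, .ofNat 9], 1,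
    [⟨15, .ofNat 1, 15, .ofNat 0⟩]⟩,
  ⟨(1333, .negSucc 8), [.ofNat 1, .ofNat 1776889, .ofNat 81, .negSucc 11996, .ofNat 1, .negSucc 1332, .ofNat 9, .ofNat 0, .ofNat 1, .negSucc 1332, .ofNat 9, .ofNat 0, .ofNat 0, .ofNat 0, .ofNat 9, .ofNat 3999, .negSucc 26], 1,
    [⟨14, .ofNat 1333, 15, .negSucc 2⟩, ⟨2, .ofNat 1, 2, .ofNat 0⟩, ⟨14, .ofNat 2, 16, .negSucc 2⟩]⟩,
  ⟨(1333, .ofNat 2), [.ofNat 1, .ofNat 1776889, .ofNat 4, .ofNat 2666, .ofNat 1, .negSucc 1332, .negSucc 1, .ofNat 0, .ofNat 1, .negSucc 1332, .negSucc 1, .ofNat 0, .ofNat 0, .ofNat 0, .ofNat 9, .ofNat 3999, .ofNat 6], 1,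
    [⟨14, .ofNat 1, 14, .ofNat 0⟩, ⟨16, .ofNat 1, 16, .ofNat 0⟩]⟩,
  ⟨(2727495848, .ofNat 0), [.ofNat 1, .ofNat 7439233600857239104, .ofNat 0, .ofNat 0, .ofNat 1, .negSucc 2727495847, .ofNat 0, .ofNat 1, .ofNat 0, .ofNat 0, .ofNat 0, .ofNat 9, .ofNat 8182487544], 0,
    [⟨14, .negSucc 0, 14, .ofNat 0⟩, ⟨11, .negSucc 295085951, 12, .ofNat 1⟩]⟩,
  ⟨(2267824128, .ofNat 9), [.ofNat 1, .ofNat 5143026275538960384, .ofNat 81, .ofNat 20410417152, .ofNat 0, .ofNat 0, .ofNat 0, .ofNat 0, .ofNat 1, .ofNat 2267824128, .ofNat 9, .ofNat 9, .ofNat 6803472384, .ofNat 27], 1,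
    [⟨2, .ofNat 1, 2, .ofNat 0⟩, ⟨11, .ofNat 2, 13, .ofNat 3⟩]⟩,
  ⟨(2267824128, .negSucc 1), [.ofNat 1, .ofNat 5143026275538960384, .ofNat 4, .negSucc 4535648255, .ofNat 0, .ofNat 0, .ofNat 0, .ofNat 0, .ofNat 1, .ofNat 2267824128, .negSucc 1, .ofNat 9, .ofNat 6803472384, .negSucc 5], 1,
    [⟨11, .negSucc 0, 13, .negSucc 2⟩]⟩,
  ⟨(885257856, .negSucc 0), [.ofNat 1, .ofNat 783681471609716736, .ofNat 1, .negSucc 885257855, .ofNat 1, .negSucc 885257855, .ofNat 1, .ofNat 0, .ofNat 0, .ofNat 0, .ofNat 0, .ofNat 9, .ofNat 2655773568, .negSucc 2], 1,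
    [⟨11, .ofNat 295085952, 12, .negSucc 0⟩, ⟨11, .ofNat 1, 11, .ofNat 0⟩]⟩,
  ⟨(1903741279, .ofNat 0), [.ofNat 1, .ofNat 3624230857368555841, .ofNat 0, .ofNat 0, .ofNat 0, .ofNat 0, .ofNat 0, .ofNat 1, .ofNat 1, .negSucc 1903741278], 0,
    [⟨11, .negSucc 0, 11, .ofNat 0⟩, ⟨8, .ofNat 366159104, 9, .negSucc 0⟩]⟩,
  ⟨(393877506, .ofNat 0), [.ofNat 1, .ofNat 155139489732780036, .ofNat 0, .ofNat 0, .ofNat 1, .negSucc 393877505, .ofNat 0, .ofNat 1, .ofNat 1, .negSucc 393877505], 0,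
    [⟨7, .ofNat 1, 7, .ofNat 0⟩]⟩,
  ⟨(366159104, .ofNat 3), [.ofNat 1, .ofNat 134072489442082816, .ofNat 9, .ofNat 1098477312, .ofNat 0, .ofNat 0, .ofNat 0, .ofNat 0, .ofNat 1, .ofNat 366159104, .ofNat 3], 1,
    [⟨9, .ofNat 1, 9, .ofNat 0⟩, ⟨2, .ofNat 1, 2, .ofNat 0⟩]⟩,
  ⟨(300364890, .ofNat 12), [.ofNat 1, .ofNat 90219067144712100, .ofNat 144, .ofNat 3604378680, .ofNat 0, .ofNat 0, .ofNat 0, .ofNat 0, .ofNat 1, .ofNat 300364890, .ofNat 12], 1,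
    [⟨2, .ofNat 1, 2, .ofNat 0⟩]⟩,
  ⟨(300364890, .ofNat 1), [.ofNat 1, .ofNat 90219067144712100, .ofNat 1, .ofNat 300364890, .ofNat 0, .ofNat 0, .ofNat 0, .ofNat 0, .ofNat 1, .ofNat 300364890, .ofNat 1], 1,
    [⟨8, .ofNat 3, 10, .negSucc 0⟩, ⟨9, .ofNat 1, 9, .ofNat 0⟩, ⟨2, .ofNat 1, 2, .ofNat 0⟩]⟩,
  ⟨(4290927, .negSucc 7), [.ofNat 1, .ofNat 18412054519329, .ofNat 64, .negSucc 34327415, .ofNat 0, .ofNat 0, .ofNat 0, .ofNat 0, .ofNat 1, .ofNat 4290927, .negSucc 7], 1,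
    [⟨8, .ofNat 4290927, 9, .negSucc 0⟩, ⟨8, .ofNat 3, 10, .negSucc 0⟩]⟩,
  ⟨(4290927, .ofNat 3), [.ofNat 1, .ofNat 18412054519329, .ofNat 9, .ofNat 12872781, .ofNat 0, .ofNat 0, .ofNat 0, .ofNat 0, .ofNat 1, .ofNat 4290927, .ofNat 3], 1,
    [⟨9, .ofNat 1, 9, .ofNat 0⟩]⟩,
  ⟨(887778, .negSucc 9), [.ofNat 1, .ofNat 788149777284, .ofNat 100, .negSucc 8877779, .ofNat 1, .ofNat 887778, .negSucc 9, .ofNat 0, .ofNat 1, .ofNat 887778, .negSucc 9], 1,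
    [⟨8, .ofNat 887778, 9, .negSucc 0⟩, ⟨8, .ofNat 1, 10, .negSucc 0⟩]⟩,
  ⟨(887778, .ofNat 1), [.ofNat 1, .ofNat 788149777284, .ofNat 1, .ofNat 887778, .ofNat 1, .ofNat 887778, .ofNat 1, .ofNat 0, .ofNat 1, .ofNat 887778, .ofNat 1], 1,
    [⟨8, .ofNat 1, 8, .ofNat 0⟩]⟩,
  ⟨(1509863773, .ofNat 0), [.ofNat 1, .ofNat 2279688613017795529, .ofNat 0, .ofNat 0, .ofNat 1, .ofNat 1509863773, .ofNat 0, .ofNat 1], 0,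
    [⟨8, .negSucc 0, 8, .ofNat 0⟩, ⟨7, .ofNat 1, 7, .ofNat 0⟩]⟩,
  ⟨(1089007680, .ofNat 13), [.ofNat 1, .ofNat 1185937727098982400, .ofNat 169, .ofNat 14157099840, .ofNat 1, .negSucc 1089007679, .negSucc 12], 1,
    [⟨7, .negSucc 0, 7, .ofNat 0⟩, ⟨2, .ofNat 1, 2, .ofNat 0⟩]⟩,
  ⟨(1089007680, .ofNat 2), [.ofNat 1, .ofNat 1185937727098982400, .ofNat 4, .ofNat 2178015360, .ofNat 1, .negSucc 1089007679, .negSucc 1], 1,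
    [⟨4, .ofNat 1016407168, 5, .negSucc 0⟩]⟩,
  ⟨(1016407168, .ofNat 7), [.ofNat 1, .ofNat 1033083531161780224, .ofNat 49, .ofNat 7114850176, .ofNat 1, .ofNat 1016407168, .ofNat 7], 1,
    [⟨2, .ofNat 1, 2, .ofNat 0⟩]⟩,
  ⟨(1016407168, .negSucc 3), [.ofNat 1, .ofNat 1033083531161780224, .ofNat 16, .negSucc 4065628671, .ofNat 1, .ofNat 1016407168, .negSucc 3], 1,
    [⟨4, .ofNat 3403149, 5, .ofNat 1⟩, ⟨2, .ofNat 1, 2, .ofNat 0⟩]⟩,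
  ⟨(786127419, .negSucc 10), [.ofNat 1, .ofNat 617996318903601561, .ofNat 121, .negSucc 8647401608, .ofNat 1, .ofNat 786127419, .negSucc 10], 0,
    [⟨2, .ofNat 1, 2, .ofNat 0⟩, ⟨4, .ofNat 786127419, 5, .negSucc 0⟩]⟩,
  ⟨(786127419, .ofNat 0), [.ofNat 1, .ofNat 617996318903601561, .ofNat 0, .ofNat 0, .ofNat 1, .ofNat 786127419], 0,
    [⟨4, .ofNat 3403149, 5, .ofNat 1⟩, ⟨4, .ofNat 13, 6, .ofNat 1⟩]⟩,
  ⟨(95288172, .negSucc 9), [.ofNat 1, .ofNat 9079835723101584, .ofNat 100, .negSucc 952881719, .ofNat 1, .ofNat 95288172, .negSucc 9], 1,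
    [⟨4, .ofNat 95288172, 5, .negSucc 0⟩, ⟨2, .ofNat 1, 2, .ofNat 0⟩, ⟨4, .ofNat 3403149, 5, .ofNat 1⟩]⟩,
  ⟨(95288172, .ofNat 1), [.ofNat 1, .ofNat 9079835723101584, .ofNat 1, .ofNat 95288172, .ofNat 1, .ofNat 95288172, .ofNat 1], 1,
    [⟨4, .ofNat 3403149, 5, .ofNat 1⟩, ⟨4, .ofNat 13, 6, .ofNat 1⟩]⟩,
  ⟨(3403149, .ofNat 13), [.ofNat 1, .ofNat 11581423116201, .ofNat 169, .ofNat 44240937, .ofNat 1, .negSucc 3403148, .negSucc 12], 1,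
    [⟨5, .negSucc 0, 5, .ofNat 0⟩, ⟨2, .ofNat 1, 2, .ofNat 0⟩]⟩,
  ⟨(3403149, .negSucc 8), [.ofNat 1, .ofNat 11581423116201, .ofNat 81, .negSucc 30628340, .ofNat 1, .negSucc 3403148, .ofNat 9], 1,
    [⟨4, .ofNat 2, 6, .ofNat 1⟩]⟩,
  ⟨(3403149, .ofNat 2), [.ofNat 1, .ofNat 11581423116201, .ofNat 4, .ofNat 6806298, .ofNat 1, .negSucc 3403148, .negSucc 1], 1,
    [⟨4, .ofNat 1, 4, .ofNat 0⟩]⟩,
  ⟨(1842237992, .ofNat 12), [.ofNat 1, .ofNat 3393840819168192064, .ofNat 144, .ofNat 22106855904], 1,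
    [⟨4, .negSucc 0, 4, .ofNat 0⟩, ⟨2, .ofNat 1, 2, .ofNat 0⟩]⟩,
  ⟨(1842237992, .ofNat 1), [.ofNat 1, .ofNat 3393840819168192064, .ofNat 1, .ofNat 1842237992], 1,
    [⟨1, .ofNat 1, 1, .ofNat 0⟩]⟩,
  ⟨(1579061136, .negSucc 6), [.ofNat 1, .ofNat 2493434071225610496, .ofNat 49, .negSucc 11053427951], 1,
    [⟨2, .ofNat 1, 2, .ofNat 0⟩, ⟨1, .ofNat 1, 1, .ofNat 0⟩]⟩,
  ⟨(1579061136, .ofNat 4), [.ofNat 1, .ofNat 2493434071225610496, .ofNat 16, .ofNat 6316244544], 1,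
    [⟨1, .ofNat 1, 1, .ofNat 0⟩, ⟨2, .ofNat 1, 2, .ofNat 0⟩]⟩,
  ⟨(1184295852, .negSucc 7), [.ofNat 1, .ofNat 1402556665064405904, .ofNat 64, .negSucc 9474366815], 1,
    [⟨2, .ofNat 1, 2, .ofNat 0⟩, ⟨1, .ofNat 1, 1, .ofNat 0⟩]⟩,
  ⟨(1184295852, .ofNat 3), [.ofNat 1, .ofNat 1402556665064405904, .ofNat 9, .ofNat 3552887556], 1,
    [⟨1, .ofNat 1, 1, .ofNat 0⟩, ⟨2, .ofNat 1, 2, .ofNat 0⟩]⟩,
  ⟨(1085604531, .ofNat 11), [.ofNat 1, .ofNat 1178537197727729961, .ofNat 121, .ofNat 11941649841], 0,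
    [⟨2, .ofNat 1, 2, .ofNat 0⟩]⟩,
  ⟨(1085604531, .ofNat 0), [.ofNat 1, .ofNat 1178537197727729961], 0,
    [⟨1, .ofNat 1, 1, .ofNat 0⟩]⟩,
  ⟨(789530568, .negSucc 8), [.ofNat 1, .ofNat 623358517806402624, .ofNat 81, .negSucc 7105775111], 1,
    [⟨2, .ofNat 1, 2, .ofNat 0⟩, ⟨0, .ofNat 623358517806402624, 1, .negSucc 0⟩, ⟨0, .negSucc 0, 2, .ofNat 1⟩]⟩,
  ⟨(789530568, .ofNat 2), [.ofNat 1, .ofNat 623358517806402624, .ofNat 4, .ofNat 1579061136], 1,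
    [⟨1, .ofNat 1, 1, .ofNat 0⟩, ⟨0, .negSucc 0, 2, .ofNat 1⟩, ⟨0, .ofNat 3947652840, 3, .ofNat 1⟩, ⟨0, .ofNat 6908392470, 3, .negSucc 0⟩]⟩,
  ⟨(690839247, .ofNat 10), [.ofNat 1, .ofNat 477258865195527009, .ofNat 100, .ofNat 6908392470], 1,
    [⟨2, .ofNat 1, 2, .ofNat 0⟩, ⟨0, .ofNat 477258865195527009, 1, .negSucc 0⟩]⟩,
  ⟨(690839247, .negSucc 0), [.ofNat 1, .ofNat 477258865195527009, .ofNat 1, .negSucc 690839246], 1,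
    [⟨1, .ofNat 1, 1, .ofNat 0⟩, ⟨0, .ofNat 1973826420, 3, .negSucc 0⟩, ⟨0, .ofNat 3947652840, 3, .ofNat 1⟩, ⟨0, .negSucc 1082219648969448, 1, .ofNat 1⟩]⟩,
  ⟨(493456605, .negSucc 6), [.ofNat 1, .ofNat 243499421018126025, .ofNat 49, .negSucc 3454196234], 1,
    [⟨0, .ofNat 243499421018126025, 1, .negSucc 0⟩, ⟨2, .ofNat 1, 2, .ofNat 0⟩, ⟨0, .ofNat 1973826420, 3, .negSucc 0⟩, ⟨1, .ofNat 1, 1, .ofNat 0⟩, ⟨0, .negSucc 0, 2, .ofNat 1⟩, ⟨0, .negSucc 1082219648969448, 1, .ofNat 1⟩]⟩,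
  ⟨(493456605, .ofNat 4), [.ofNat 1, .ofNat 243499421018126025, .ofNat 16, .ofNat 1973826420], 1,
    [⟨1, .ofNat 1, 1, .ofNat 0⟩, ⟨2, .ofNat 1, 2, .ofNat 0⟩, ⟨0, .negSucc 0, 2, .ofNat 1⟩, ⟨0, .ofNat 3947652840, 3, .ofNat 1⟩, ⟨0, .negSucc 1082219648969448, 1, .ofNat 1⟩]⟩,
  ⟨(460559498, .negSucc 7), [.ofNat 1, .ofNat 212115051198012004, .ofNat 64, .negSucc 3684475983], 1,
    [⟨2, .ofNat 1, 2, .ofNat 0⟩, ⟨0, .ofNat 212115051198012004, 1, .negSucc 0⟩, ⟨0, .ofNat 1611958243, 3, .negSucc 0⟩, ⟨1, .ofNat 1, 1, .ofNat 0⟩]⟩,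
  ⟨(460559498, .ofNat 3), [.ofNat 1, .ofNat 212115051198012004, .ofNat 9, .ofNat 1381678494], 1,
    [⟨1, .ofNat 1, 1, .ofNat 0⟩, ⟨2, .ofNat 1, 2, .ofNat 0⟩, ⟨0, .negSucc 0, 2, .ofNat 1⟩, ⟨0, .ofNat 3947652840, 3, .ofNat 1⟩, ⟨0, .ofNat 1611958243, 3, .negSucc 0⟩, ⟨0, .negSucc 1082219648969448, 1, .ofNat 1⟩]⟩,
  ⟨(394765284, .negSucc 9), [.ofNat 1, .ofNat 155839629451600656, .ofNat 100, .negSucc 3947652839], 1,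
    [⟨2, .ofNat 1, 2, .ofNat 0⟩, ⟨0, .ofNat 155839629451600656, 1, .negSucc 0⟩]⟩,
  ⟨(394765284, .ofNat 1), [.ofNat 1, .ofNat 155839629451600656, .ofNat 1, .ofNat 394765284], 1,
    [⟨1, .ofNat 1, 1, .ofNat 0⟩, ⟨0, .ofNat 921118996, 3, .ofNat 1⟩, ⟨0, .ofNat 1611958243, 3, .negSucc 0⟩, ⟨0, .negSucc 1082219648969448, 1, .ofNat 1⟩]⟩,
  ⟨(230279749, .ofNat 7), [.ofNat 1, .ofNat 53028762799503001, .ofNat 49, .ofNat 1611958243], 1,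
    [⟨0, .ofNat 53028762799503001, 1, .negSucc 0⟩, ⟨2, .ofNat 1, 2, .ofNat 0⟩, ⟨1, .ofNat 1, 1, .ofNat 0⟩, ⟨0, .negSucc 0, 2, .ofNat 1⟩, ⟨0, .negSucc 1082219648969448, 1, .ofNat 1⟩]⟩,
  ⟨(230279749, .negSucc 3), [.ofNat 1, .ofNat 53028762799503001, .ofNat 16, .negSucc 921118995], 1,
    [⟨0, .ofNat 32897107, 3, .negSucc 0⟩, ⟨2, .ofNat 1, 2, .ofNat 0⟩, ⟨1, .ofNat 1, 1, .ofNat 0⟩, ⟨0, .negSucc 0, 2, .ofNat 1⟩]⟩,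
  ⟨(32897107, .negSucc 9), [.ofNat 1, .ofNat 1082219648969449, .ofNat 100, .negSucc 328971069], 1,
    [⟨0, .ofNat 1082219648969449, 1, .negSucc 0⟩, ⟨2, .ofNat 1, 2, .ofNat 0⟩]⟩,
  ⟨(32897107, .ofNat 1), [.ofNat 1, .ofNat 1082219648969449, .ofNat 1, .ofNat 32897107], 1,
    [⟨0, .ofNat 1, 0, .ofNat 0⟩]⟩]

/-- the last forms -/
def fe : List Fn := [⟨0, .negSucc 0, 0, .ofNat 0⟩]

theorem hfe : ∀ f ∈ fe, f.c < 24 ∧ f.c' < 24 := by decide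

theorem hvalid : valid 24 Ls = true := by decide +kernel

theorem hvec : (Ls.all fun L => decide (L.o = wt L.t) && (List.range 24).all fun i => decide (L.v.getD i 0 = F i L.t)) = true := by
  decide +kernel

theorem hdfs : dfs fe 42 Ls tot 0 = true := by decide +kernel

theorem hmem : (H265.S8.TD.all fun d => H735.Lin.allAB d fun _ b => Ls.any fun L => decide (L.t = (d, b))) = true := by
  decide +kernel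

/-- **The count.** -/
theorem count {X : Type*} [Fintype X] (τ : X → ℕ × ℤ) (hτ : ∀ x, ∃ L ∈ Ls, L.t = τ x)
    (hs : ∀ i < 24, tot.getD i 0 = ∑ x, F i (τ x)) : ∑ x, wt (τ x) = 42 := by
  classical
  have h := sound (n := 24) (F := F) (o := wt) (τ := τ) (w := 42) hfe Ls hvalid (fun L hL => by
    have h1 := List.all_eq_true.1 hvec L hL
    rw [Bool.and_eq_true, decide_eq_true_iff, List.all_eq_true] at h1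
    exact ⟨h1.1, fun i hi => of_decide_eq_true (h1.2 i (List.mem_range.2 hi))⟩) Finset.univ tot 0
    (fun x _ => hτ x) hs hdfs
  rwa [zero_add] at h

end Cfsg.Agent.TID.D3.J4
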